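import Groth.Agent.CatLib.Univ
import Groth.Agent.CommAlgDim.DepthBounds
import Mathlib.RingTheory.MvPolynomial.Localization
import Mathlib.RingTheory.EssentialFiniteness

/-! Further consequences: universal catenarity, dimension functions, completions. -/

set_option autoImplicit false
set_option linter.style.haveILetI false
set_option maxHeartbeats 1600000
universe u

open IsLocalRing EGA4 CommAlgDim RingTheory.Sequence Pointwise

namespace CatLib

attribute [local instance] MvPolynomial.algebraMvPolynomial

theorem isUniversallyCatenary_of_finiteType (A B : Type u) [CommRing A] [CommRing B] [Algebra A B]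
    [Algebra.FiniteType A B] (hA : CAlg.IsUniversallyCatenary A) : CAlg.IsUniversallyCatenary B := by
  haveI := hA.1
  refine ⟨Algebra.FiniteType.isNoetherianRing A B, fun S _ _ hS => ?_⟩
  letI : Algebra A S := ((algebraMap B S).comp (algebraMap A B)).toAlgebra
  haveI : IsScalarTower A B S := IsScalarTower.of_algebraMap_eq fun _ => rfl
  exact hA.2 S (Algebra.FiniteType.trans ‹Algebra.FiniteType A B› hS)

theorem isUniversallyCatenary_of_isLocalization {A : Type u} [CommRing A] (M : Submonoid A) (B : Type u)
    [CommRing B] [Algebra A B] [IsLocalization M B] (hA : CAlg.IsUniversallyCatenary A) :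
    CAlg.IsUniversallyCatenary B := by
  haveI := hA.1
  haveI : IsNoetherianRing B := IsLocalization.isNoetherianRing M _ inferInstance
  refine isUniversallyCatenary_of_mvPolynomial fun n => ?_
  exact isCatenary_localization (M.map (MvPolynomial.C (σ := Fin n))) _ (hA.2 _ inferInstance)

theorem isUniversallyCatenary_of_essFiniteType (A B : Type u) [CommRing A] [CommRing B] [Algebra A B]
    [Algebra.EssFiniteType A B] (hA : CAlg.IsUniversallyCatenary A) : CAlg.IsUniversallyCatenary B :=
  isUniversallyCatenary_of_isLocalization (Algebra.EssFiniteType.submonoid A B) B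
    (isUniversallyCatenary_of_finiteType A (Algebra.EssFiniteType.subalgebra A B) hA)

theorem isUniversallyCatenary_iff_localization_maximal (R : Type u) [CommRing R] [IsNoetherianRing R] :
    CAlg.IsUniversallyCatenary R ↔
      ∀ (m : Ideal R) [m.IsMaximal], CAlg.IsUniversallyCatenary (Localization.AtPrime m) := by
  refine ⟨fun h m _ => isUniversallyCatenary_of_isLocalization m.primeCompl _ h,
    fun h => isUniversallyCatenary_of_mvPolynomial fun n => isCatenary_iff_localization_maximal.2 fun M hM => ?_⟩
  obtain ⟨m, hm, hle⟩ := Ideal.exists_le_maximal (M.comap (MvPolynomial.C : R →+* MvPolynomial (Fin n) R))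
    (Ideal.IsPrime.ne_top inferInstance)
  let T := MvPolynomial (Fin n) (Localization.AtPrime m)
  let W : Submonoid (MvPolynomial (Fin n) R) := m.primeCompl.map (MvPolynomial.C (σ := Fin n))
  haveI : IsLocalization W T := MvPolynomial.isLocalization m.primeCompl (Localization.AtPrime m)
  have hdisj : Disjoint (W : Set (MvPolynomial (Fin n) R)) M := by
    rw [Set.disjoint_left]
    rintro _ ⟨a, ha, rfl⟩ hM'
    exact ha (hle hM')
  let M' := M.map (algebraMap (MvPolynomial (Fin n) R) T)
  haveI : M'.IsPrime := IsLocalization.isPrime_of_isPrime_disjoint W _ M inferInstance hdisj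
  have hM' : M'.comap (algebraMap (MvPolynomial (Fin n) R) T) = M :=
    IsLocalization.comap_map_of_isPrime_disjoint W _ inferInstance hdisj
  haveI : IsLocalization.AtPrime (Localization.AtPrime M') M := by
    have h1 : IsLocalization.AtPrime (Localization.AtPrime M') (M'.comap (algebraMap (MvPolynomial (Fin n) R) T)) :=
      IsLocalization.isLocalization_isLocalization_atPrime_isLocalization W _ M'
    simpa only [hM'] using h1
  have hc : CAlg.IsCatenary (Localization.AtPrime M') := isCatenary_localization M'.primeCompl _ ((h m).2 T inferInstance)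
  exact isCatenary_of_ringEquiv (R := Localization.AtPrime M') (IsLocalization.algEquiv M.primeCompl (Localization.AtPrime M')
    (Localization.AtPrime M)).toRingEquiv hc

theorem isCatenary_iff_dimFun (A : Type u) [CommRing A] [IsNoetherianRing A] [IsLocalRing A] :
    CAlg.IsCatenary A ↔
      ∀ p q : PrimeSpectrum A, p < q →
        ringKrullDim (A ⧸ q.asIdeal) < ringKrullDim (A ⧸ p.asIdeal) ∧
          (p ⋖ q → ringKrullDim (A ⧸ p.asIdeal) = ringKrullDim (A ⧸ q.asIdeal) + 1) := by
  have hdim : ∀ x : PrimeSpectrum A, ∃ d : ℕ, ringKrullDim (A ⧸ x.asIdeal) = (d : ℕ) := fun x => by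
    haveI : IsLocalRing (A ⧸ x.asIdeal) := IsLocalRing.of_surjective' _ Ideal.Quotient.mk_surjective
    exact exists_ringKrullDim_eq
  choose d hd using hdim
  constructor
  · intro h p q hpq
    haveI : IsLocalRing (A ⧸ p.asIdeal) := IsLocalRing.of_surjective' _ Ideal.Quotient.mk_surjective
    let q' := q.asIdeal.map (Ideal.Quotient.mk p.asIdeal)
    haveI : q'.IsPrime := Ideal.map_isPrime_of_surjective Ideal.Quotient.mk_surjective
      (by rw [Ideal.mk_ker]; exact hpq.le)
    have h1 := ringKrullDim_quotient_add_height_of_domain (isCatenary_quotient p.asIdeal h) q'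
    rw [ringKrullDim_quotient_quotient_map hpq.le, hd, hd] at h1
    obtain ⟨k, hk⟩ := ENat.ne_top_iff_exists.1 (Ideal.height_ne_top (Ideal.IsPrime.ne_top ‹q'.IsPrime›) : q'.height ≠ ⊤)
    rw [← hk] at h1
    have hkd : d q + k = d p := by exact_mod_cast h1
    have hk0 : k ≠ 0 := by
      rintro rfl
      have h0 := Ideal.height_eq_zero_iff_eq_bot.1 hk.symm
      rw [Ideal.map_eq_bot_iff_le_ker, Ideal.mk_ker] at h0
      exact hpq.not_ge h0
    rw [hd, hd]
    refine ⟨by exact_mod_cast (by omega : d q < d p), fun hcov => ?_⟩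
    have : (k : ℕ∞) = 1 := hk.trans (height_map_eq_one_of_covBy hcov)
    have hk1 : k = 1 := by exact_mod_cast this
    exact_mod_cast (by omega : d p = d q + 1)
  · intro h
    have hanti : ∀ p q : PrimeSpectrum A, p ≤ q → d q ≤ d p := fun p q hpq => by
      rcases hpq.eq_or_lt with rfl | hlt
      · exact le_rfl
      · have := (h p q hlt).1
        rw [hd, hd] at this
        exact (Nat.le_of_lt (by exact_mod_cast this))
    refine isCatenary_iff.2 (isCat_of_rank (fun p q _ => bounded_of_height height_ne_top p q) fun p =>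
      ⟨fun x => d p - d x, fun q r hpq hqr => ?_⟩)
    show d p - d r = d p - d q + 1
    have h2 := (h q r hqr.lt).2 hqr
    rw [hd, hd] at h2
    have h3 : d q = d r + 1 := by exact_mod_cast h2
    have := hanti p q hpq
    omega

section Local
variable {A : Type u} [CommRing A] [IsLocalRing A] [IsNoetherianRing A]

theorem isFormallyEquidim_iff_minimalPrimes :
    IsFormallyEquidim A ↔
      (IsEquidim A ∧ ∀ (p : Ideal A) [p.IsPrime], p ∈ minimalPrimes A → IsFormallyEquidim (A ⧸ p)) := by
  constructor
  · refine fun h => ⟨(equidim_catenary_of_isFormallyEquidim h).1, fun p _ _ => ?_⟩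
    exact (isEquidim_quotient_iff h p).1 (isEquidim_of_isDomain _)
  · rintro ⟨heq, hmin⟩ P hP
    haveI := isNoetherianRing_cpl A
    have hP' : P ∈ ((⊥ : Ideal A).map (algebraMap A (AdicCompletion (maximalIdeal A) A))).minimalPrimes := by
      rw [Ideal.map_bot]; exact hP
    obtain ⟨hp, hP''⟩ := under_mem_minimalPrimes hP'
    haveI := hp.1.1
    set p := P.comap (algebraMap A (AdicCompletion (maximalIdeal A) A))
    haveI : IsLocalRing (A ⧸ p) := IsLocalRing.of_surjective' _ Ideal.Quotient.mk_surjective
    obtain ⟨e⟩ := exists_cpl_quotient_equiv (A := A) (A ⧸ p) Ideal.Quotient.mk_surjective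
    rw [Ideal.Quotient.algebraMap_eq, Ideal.mk_ker] at e
    have h1 := isEquidim_of_ringEquiv e (hmin p hp) _ (map_mem_minimalPrimes hP'')
    rw [ringKrullDim_quotient_quotient_map hP''.1.2, ← ringKrullDim_eq_of_ringEquiv e, ringKrullDim_cpl,
      heq p hp] at h1
    rw [h1, ringKrullDim_cpl]

theorem isCM_of_isCM_cpl : ∀ (n : ℕ) (A : Type u) [CommRing A] [IsLocalRing A] [IsNoetherianRing A],
    ringKrullDim A = (n : ℕ) →
    (haveI := isNoetherianRing_cpl A; IsCM (AdicCompletion (maximalIdeal A) A)) → IsCM A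
  | 0, A, _, _, _, hn, _ => isCM_of_hasSeqIn (hasSeqIn_zero _) hn.le
  | n + 1, A, _, _, _, hn, hC => by
    haveI := isNoetherianRing_cpl A
    let C := AdicCompletion (maximalIdeal A) A
    haveI : Module.FaithfullyFlat A C := Module.FaithfullyFlat.of_flat_of_isLocalHom
    obtain ⟨x, hx, hxreg⟩ : ∃ x ∈ maximalIdeal A, IsSMulRegular A x := by
      refine exists_isSMulRegular_mem fun P hP hle => ?_
      have hPm : P = maximalIdeal A := le_antisymm (le_maximalIdeal hP.isPrime.ne_top) hle
      subst hPm
      obtain ⟨-, f, hf⟩ := (isAssociatedPrime_iff_exists_injective_linearMap _ _).1 hP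
      set z := f 1
      have hz : ∀ a ∈ maximalIdeal A, a * z = 0 := fun a ha => by
        rw [← smul_eq_mul, ← map_smul, Algebra.smul_def, mul_one, Ideal.Quotient.algebraMap_eq,
          Ideal.Quotient.eq_zero_iff_mem.2 ha, map_zero]
      have hz0 : z ≠ 0 := fun h0 => by
        haveI := Ideal.Quotient.nontrivial_iff.2 (maximalIdeal.isMaximal A).ne_top
        exact one_ne_zero (hf (h0.trans (map_zero f).symm))
      have hz0' : algebraMap A C z ≠ 0 := fun h0 =>
        hz0 ((FaithfulSMul.algebraMap_injective A C) (h0.trans (map_zero _).symm))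
      obtain ⟨Q, hQ, hQle⟩ := exists_le_isAssociatedPrime_of_isNoetherianRing C (algebraMap A C z) hz0'
      have hmQ : maximalIdeal C ≤ Q := by
        refine le_trans ?_ hQle
        rw [AdicCompletion.maximalIdeal_eq_map, Ideal.map_le_iff_le_comap]
        intro a ha
        rw [Ideal.mem_comap, Submodule.mem_colon_singleton, smul_eq_mul, ← map_mul, hz a ha, map_zero]
        exact zero_mem _
      have h1 := ringKrullDim_quotient_of_mem_associatedPrimes hC hQ
      rw [le_antisymm (le_maximalIdeal hQ.1.ne_top) hmQ, ringKrullDim_cpl, hn] at h1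
      letI := Ideal.Quotient.field (maximalIdeal C)
      rw [ringKrullDim_eq_zero_of_field] at h1
      exact absurd h1.symm (by exact_mod_cast Nat.succ_ne_zero n)
    haveI := nontrivial_quotient (singleton_ne_top hx)
    haveI : IsLocalRing (A ⧸ Ideal.span {x}) := IsLocalRing.of_surjective' _ Ideal.Quotient.mk_surjective
    have hdim := ringKrullDim_quotient_span_singleton_succ_eq_ringKrullDim hxreg hx
    obtain ⟨k, hk⟩ := exists_ringKrullDim_eq (R := A ⧸ Ideal.span {x})
    rw [hk, hn] at hdim
    have hkn : k + 1 = n + 1 := by exact_mod_cast hdim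
    have hxC : IsSMulRegular C (algebraMap A C x) :=
      (isWeaklyRegular_singleton_iff _ _).1 (by
        simpa using ((isWeaklyRegular_singleton_iff A x).2 hxreg).of_flat (S := C))
    have hxm : algebraMap A C x ∈ maximalIdeal C := by
      rw [AdicCompletion.maximalIdeal_eq_map]; exact Ideal.mem_map_of_mem _ hx
    haveI := nontrivial_quotient (singleton_ne_top hxm)
    haveI : IsLocalRing (C ⧸ Ideal.span {algebraMap A C x}) := IsLocalRing.of_surjective' _ Ideal.Quotient.mk_surjective
    obtain ⟨e⟩ := exists_cpl_quotient_equiv (A := A) (A ⧸ Ideal.span {x}) Ideal.Quotient.mk_surjective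
    rw [Ideal.Quotient.algebraMap_eq, Ideal.mk_ker, Ideal.map_span, Set.image_singleton] at e
    haveI := isNoetherianRing_cpl (A ⧸ Ideal.span {x})
    obtain ⟨rs, hl, hm, hr⟩ : HasSeqIn (maximalIdeal (A ⧸ Ideal.span {x})) (A ⧸ Ideal.span {x}) k := by
      obtain ⟨rs, hrs, hd⟩ := isCM_of_isCM_cpl n (A ⧸ Ideal.span {x}) (by rw [hk]; norm_cast; omega)
        (isCM_of_ringEquiv e.symm (hC.quotient_singleton hxC hxm))
      rw [hk] at hd
      exact ⟨rs, (by exact_mod_cast hd.symm), mem_maximalIdeal_of_isRegular hrs, hrs.toIsWeaklyRegular⟩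
    obtain ⟨rs0, hrs0⟩ : ∃ rs0 : List A, rs0.map (Ideal.Quotient.mk (Ideal.span {x})) = rs :=
      List.map_surjective_iff.2 Ideal.Quotient.mk_surjective rs
    refine isCM_of_hasSeqIn (n := n + 1) ⟨x :: rs0, ?_, ?_, (isWeaklyRegular_cons_iff' A x rs0).2 ⟨hxreg, ?_⟩⟩ hn.le
    · rw [List.length_cons, ← List.length_map (Ideal.Quotient.mk (Ideal.span {x})), hrs0, hl]; omega
    · simp only [List.mem_cons, forall_eq_or_imp]
      refine ⟨hx, fun r hr' => ?_⟩
      haveI := IsLocalHom.of_surjective (Ideal.Quotient.mk (Ideal.span {x})) Ideal.Quotient.mk_surjective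
      rw [← maximalIdeal_comap (Ideal.Quotient.mk (Ideal.span {x}))]
      exact hm _ (hrs0 ▸ List.mem_map_of_mem hr')
    · rw [hrs0]
      have hy' : Ideal.span {x} = x • (⊤ : Submodule A A) := by
        rw [← Submodule.ideal_span_singleton_smul, Ideal.smul_eq_mul, Ideal.mul_top]
      refine (AddEquiv.isWeaklyRegular_congr (e := (Submodule.quotEquivOfEq _ _ hy').toAddEquiv)
        (as := rs) (bs := rs) ?_).1 hr
      refine List.forall₂_same.2 fun r _ z => ?_
      obtain ⟨a, rfl⟩ := Ideal.Quotient.mk_surjective r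
      exact (Submodule.quotEquivOfEq _ _ hy').map_smul a z

end Local

theorem isCMRing_iff_idealDepth (R : Type u) [CommRing R] [IsNoetherianRing R] :
    IsCMRing R ↔ ∀ a : Ideal R, a ≠ ⊤ → LocCoh.idealDepth a R = a.height := by
  constructor
  · intro hR a ha
    obtain ⟨h, hh⟩ := ENat.ne_top_iff_exists.1 (Ideal.height_ne_top ha : a.height ≠ ⊤)
    have hge : HasSeqIn a R h := by
      refine hasSeqIn_of_forall_localization h R fun p _ hap => ?_
      haveI : IsNoetherianRing (Localization.AtPrime p) := IsLocalization.isNoetherianRing p.primeCompl _ inferInstance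
      obtain ⟨rs, hrs, hd⟩ := hR p
      rw [IsLocalization.AtPrime.ringKrullDim_eq_height p] at hd
      have hlen : p.height = (rs.length : ℕ∞) := WithBot.coe_injective hd
      have hhr : h ≤ rs.length := by
        have := Ideal.height_mono hap
        rw [← hh, hlen] at this
        exact_mod_cast this
      refine HasSeqIn.mono hhr ⟨rs, rfl, mem_maximalIdeal_of_isRegular hrs, ?_⟩
      exact (LinearEquiv.extendScalarsOfIsLocalization p.primeCompl (Localization.AtPrime p)
        (IsLocalizedModule.linearEquiv p.primeCompl (LocalizedModule.mkLinearMap p.primeCompl R)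
          (Algebra.linearMap R (Localization.AtPrime p)))).symm.isWeaklyRegular_congr rs |>.1 hrs.toIsWeaklyRegular
    refine le_antisymm ?_ (hh ▸ (le_idealDepth_iff a h).2 hge)
    by_contra hlt
    push Not at hlt
    rw [← hh] at hlt
    have h1 : ((h + 1 : ℕ) : ℕ∞) ≤ LocCoh.idealDepth a R := by
      push_cast
      exact Order.add_one_le_of_lt hlt
    obtain ⟨p, hp, hap, hph⟩ := Ideal.exists_isPrime_height_eq hh.symm
    haveI := hp
    obtain ⟨rs, hl, hm, hr⟩ := ((le_idealDepth_iff a (h + 1)).1 h1).localization (p := p) hap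
    haveI : IsNoetherianRing (Localization.AtPrime p) := IsLocalization.isNoetherianRing p.primeCompl _ inferInstance
    have hr' := (LinearEquiv.extendScalarsOfIsLocalization p.primeCompl (Localization.AtPrime p)
        (IsLocalizedModule.linearEquiv p.primeCompl (LocalizedModule.mkLinearMap p.primeCompl R)
          (Algebra.linearMap R (Localization.AtPrime p)))).isWeaklyRegular_congr rs |>.1 hr
    have hreg := IsRegular.of_isWeaklyRegular_of_mem_maximalIdeal _ hm hr'
    have hdl := ringKrullDim_add_length_eq_ringKrullDim_of_isRegular rs hreg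
    haveI : Nontrivial (Localization.AtPrime p ⧸ Ideal.ofList rs) := Ideal.Quotient.nontrivial_iff.2
      (ne_top_of_le_ne_top (maximalIdeal.isMaximal _).ne_top (ofList_le_iff.2 hm))
    rw [IsLocalization.AtPrime.ringKrullDim_eq_height p (Localization.AtPrime p), hph, hl] at hdl
    have hle : ((h + 1 : ℕ) : WithBot ℕ∞) ≤ ((h : ℕ∞) : WithBot ℕ∞) :=
      hdl ▸ le_add_of_nonneg_left ringKrullDim_nonneg_of_nontrivial
    have : h + 1 ≤ h := by exact_mod_cast hle
    omega
  · intro h P _
    haveI : IsNoetherianRing (Localization.AtPrime P) := IsLocalization.isNoetherianRing P.primeCompl _ inferInstance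
    obtain ⟨k, hk⟩ := ENat.ne_top_iff_exists.1 (Ideal.height_ne_top (Ideal.IsPrime.ne_top ‹_›) : P.height ≠ ⊤)
    have h1 := h P (Ideal.IsPrime.ne_top ‹_›)
    rw [← hk] at h1
    obtain ⟨rs, hl, hm, hr⟩ := ((le_idealDepth_iff P k).1 h1.ge).localization (p := P) le_rfl
    refine isCM_of_hasSeqIn ⟨rs, hl, hm, (LinearEquiv.extendScalarsOfIsLocalization P.primeCompl (Localization.AtPrime P)
        (IsLocalizedModule.linearEquiv P.primeCompl (LocalizedModule.mkLinearMap P.primeCompl R)
          (Algebra.linearMap R (Localization.AtPrime P)))).isWeaklyRegular_congr rs |>.1 hr⟩ ?_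
    rw [IsLocalization.AtPrime.ringKrullDim_eq_height P, ← hk]
    rfl

theorem isEquidim_quotient_iff_flat {A B : Type u} [CommRing A] [CommRing B] [Algebra A B]
    [IsNoetherianRing A] [IsNoetherianRing B] [IsLocalRing A] [IsLocalRing B] [IsLocalHom (algebraMap A B)]
    [Module.Flat A B] (heq : IsEquidim B) (hcat : CAlg.IsCatenary B)
    (h0 : ringKrullDim (B ⧸ (maximalIdeal A).map (algebraMap A B)) = 0) (a : Ideal A) :
    IsEquidim (B ⧸ a.map (algebraMap A B)) ↔ IsEquidim (A ⧸ a) := by
  by_cases ha : a = ⊤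
  · subst ha
    haveI : Subsingleton (A ⧸ (⊤ : Ideal A)) := Ideal.Quotient.subsingleton_iff.2 rfl
    haveI : Subsingleton (B ⧸ (⊤ : Ideal A).map (algebraMap A B)) :=
      Ideal.Quotient.subsingleton_iff.2 (Ideal.map_top _)
    exact iff_of_true (fun P hP => absurd (Ideal.eq_top_of_isUnit_mem P (zero_mem P) (isUnit_of_subsingleton 0)) hP.1.1.ne_top)
      (fun P hP => absurd (Ideal.eq_top_of_isUnit_mem P (zero_mem P) (isUnit_of_subsingleton 0)) hP.1.1.ne_top)
  haveI := Ideal.Quotient.nontrivial_iff.2 ha
  haveI : IsLocalRing (A ⧸ a) := IsLocalRing.of_surjective' _ Ideal.Quotient.mk_surjective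
  have hne : a.map (algebraMap A B) ≠ ⊤ := ne_top_of_le_ne_top (maximalIdeal.isMaximal B).ne_top
    ((Ideal.map_mono (le_maximalIdeal ha)).trans (((local_hom_TFAE (algebraMap A B)).out 0 2).1 ‹_›))
  haveI := Ideal.Quotient.nontrivial_iff.2 hne
  haveI : IsLocalRing (B ⧸ a.map (algebraMap A B)) := IsLocalRing.of_surjective' _ Ideal.Quotient.mk_surjective
  haveI : Module.Flat (A ⧸ a) (B ⧸ a.map (algebraMap A B)) := flat_quotient a
  haveI : IsLocalHom (algebraMap (A ⧸ a) (B ⧸ a.map (algebraMap A B))) := by
    refine ⟨fun x hx => ?_⟩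
    obtain ⟨r, rfl⟩ := Ideal.Quotient.mk_surjective x
    haveI := IsLocalHom.of_surjective (Ideal.Quotient.mk (a.map (algebraMap A B))) Ideal.Quotient.mk_surjective
    exact (IsUnit.of_map (algebraMap A B) r (IsUnit.of_map (Ideal.Quotient.mk _) _ hx)).map _
  refine ⟨fun h => (equidim_catenary_descent h (isCatenary_quotient _ hcat)).1, fun h => ?_⟩
  obtain ⟨hAeq, hAcat⟩ := equidim_catenary_descent (A := A) heq hcat
  obtain ⟨p0, hp0, hp0'⟩ := exists_minimal_dim (R := A ⧸ a)
  have hp0'' := comap_mem_minimalPrimes hp0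
  haveI := hp0''.1.1
  obtain ⟨e, he⟩ := ENat.ne_top_iff_exists.1 (Ideal.height_ne_top hp0''.1.1.ne_top :
    (p0.comap (Ideal.Quotient.mk a)).height ≠ ⊤)
  have h2 := ringKrullDim_quotient_add_height_of_equidim hAeq hAcat (p0.comap (Ideal.Quotient.mk a))
  rw [← ringKrullDim_quotient_quotient, hp0', ← he] at h2
  refine (isEquidim_quotient_of_height heq hcat _ (h := e) fun P hP => ?_).1
  obtain ⟨hp, hP'⟩ := under_mem_minimalPrimes hP
  haveI := hp.1.1
  rw [height_eq_of_mem_minimalPrimes hP']
  have h1 := h _ (map_mem_minimalPrimes hp)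
  rw [ringKrullDim_quotient_quotient_map hp.1.2] at h1
  have h3 := ringKrullDim_quotient_add_height_of_equidim hAeq hAcat (P.comap (algebraMap A B))
  obtain ⟨f, hf⟩ := ENat.ne_top_iff_exists.1 (Ideal.height_ne_top hp.1.1.ne_top :
    (P.comap (algebraMap A B)).height ≠ ⊤)
  obtain ⟨n, hn⟩ := exists_ringKrullDim_eq (R := A ⧸ a)
  rw [h1, ← h2, hn, ← hf] at h3
  rw [← hf]
  have : n + f = n + e := by exact_mod_cast h3
  exact_mod_cast (by omega : f = e)

end CatLib
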