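import Groth.Agent.CatLib.CplEquiv
import Groth.Agent.CatLib.More
import Mathlib.RingTheory.Flat.EquationalCriterion
import Mathlib.RingTheory.PolynomialAlgebra
import Mathlib.RingTheory.KrullDimension.Polynomial
import Mathlib.RingTheory.Flat.Stability
import Mathlib.RingTheory.Ideal.MinimalPrime.Localization
import Mathlib.RingTheory.Localization.Algebra

/-! Ratliff's theorem: universally catenary local rings are formally catenary. -/

set_option autoImplicit false
set_option linter.style.haveILetI false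
set_option maxHeartbeats 1600000
universe u

open IsLocalRing EGA4 CommAlgDim
open scoped Polynomial nonZeroDivisors

namespace CatLib

/-- Primes over a minimal prime and its splitting elements. -/
theorem exists_split {R : Type u} [CommRing R] [IsNoetherianRing R] (Q : Ideal R) (hQ : Q ∈ minimalPrimes R) :
    ∃ q J : Ideal R, q * J = ⊥ ∧ ¬ J ≤ Q ∧ q ≤ Q ∧ ∀ P : Ideal R, P.IsPrime → q ≤ P → Q ≤ P := by
  haveI := hQ.1.1
  let q := RingHom.ker (algebraMap R (Localization.AtPrime Q))
  have hmem : ∀ x, x ∈ q ↔ ∃ s : Q.primeCompl, (s : R) * x = 0 := fun x =>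
    RingHom.mem_ker.trans (IsLocalization.map_eq_zero_iff Q.primeCompl (Localization.AtPrime Q) x)
  refine ⟨q, q.annihilator, ?_, fun hle => ?_, fun x hx => ?_, fun P hP hqP x hx => ?_⟩
  · rw [mul_comm]
    exact Submodule.annihilator_mul q
  · obtain ⟨G, hG⟩ := IsNoetherian.noetherian q
    have hG' : ∀ g : (G : Set R), ∃ s : Q.primeCompl, (s : R) * g = 0 := fun g =>
      (hmem g).1 (hG ▸ Submodule.subset_span g.2)
    choose s hs using hG'
    have h1 : ((∏ g : (G : Set R), s g : Q.primeCompl) : R) ∈ q.annihilator := by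
      refine Submodule.mem_annihilator.2 fun y hy => ?_
      rw [← hG] at hy
      induction hy using Submodule.span_induction with
      | mem g hg =>
        classical
        rw [smul_eq_mul, Submonoid.coe_finsetProd, ← Finset.prod_erase_mul _ _ (Finset.mem_univ ⟨g, hg⟩),
          mul_assoc, hs ⟨g, hg⟩, mul_zero]
      | zero => exact smul_zero _
      | add _ _ _ _ hy hz => rw [smul_add, hy, hz, add_zero]
      | smul r _ _ hy => rw [smul_comm, hy, smul_zero]
    exact (∏ g : (G : Set R), s g : Q.primeCompl).2 (hle h1)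
  · obtain ⟨s, hs⟩ := (hmem x).1 hx
    exact ((inferInstance : Q.IsPrime).mem_or_mem (hs ▸ zero_mem Q : (s : R) * x ∈ Q)).resolve_left s.2
  · have h1 : algebraMap R (Localization.AtPrime Q) x ∈
        (⊥ : Ideal (Localization.AtPrime Q)).radical := by
      have := IsLocalization.AtPrime.radical_map_of_mem_minimalPrimes (Localization.AtPrime Q) Q
        (I := (⊥ : Ideal R)) hQ
      rw [Ideal.map_bot] at this
      rw [this]
      exact Ideal.mem_map_of_mem _ hx
    obtain ⟨n, hn⟩ := h1
    rw [← map_pow, Ideal.mem_bot] at hn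
    exact hP.mem_of_pow_mem n (hqP (RingHom.mem_ker.2 hn))

/-- Approximation of elements with torsion image modulo a nonzero element. -/
theorem exists_approx {A : Type u} [CommRing A] [IsLocalRing A] [IsNoetherianRing A] (a : A) (n : ℕ)
    (u : AdicCompletion (maximalIdeal A) A)
    (hu : ∀ g ∈ maximalIdeal A ^ n, algebraMap A _ g * u ∈ Ideal.span {algebraMap A _ a}) :
    ∃ (b : A) (w : AdicCompletion (maximalIdeal A) A), w ∈ maximalIdeal (AdicCompletion (maximalIdeal A) A) ∧
      algebraMap A _ b = u + algebraMap A _ a * w := by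
  let Â := AdicCompletion (maximalIdeal A) A
  obtain ⟨G, hG⟩ := IsNoetherian.noetherian (maximalIdeal A ^ n)
  let ι := {g // g ∈ G}
  have ht : ∀ g : ι, ∃ t : Â, t * algebraMap A Â a = algebraMap A Â g.1 * u := fun g =>
    Ideal.mem_span_singleton'.1 (hu g.1 (hG ▸ Submodule.subset_span g.2))
  choose t ht using ht
  classical
  let x : (Option ι →₀ A) →ₗ[A] Â := Finsupp.linearCombination A (fun o => o.elim u t)
  let f : (ι →₀ A) →ₗ[A] (Option ι →₀ A) :=
    Finsupp.linearCombination A fun g => Finsupp.single none g.1 - Finsupp.single (some g) a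
  have hxf : x ∘ₗ f = 0 := Finsupp.lhom_ext fun g r => by
    simp only [x, f, LinearMap.comp_apply, Finsupp.linearCombination_single, map_smul, map_sub,
      Option.elim, LinearMap.zero_apply, Algebra.smul_def, mul_comm _ (t g), ht g]
    simp
  obtain ⟨k, c', y, hxy, hcf⟩ := Module.Flat.exists_factorization_of_comp_eq_zero_of_free hxf
  let c : Fin k → A := fun j => c' (Finsupp.single none 1) j
  let ys : Fin k → Â := fun j => y (Finsupp.single j 1)
  have hu' : u = ∑ j, algebraMap A Â (c j) * ys j := by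
    have h1 : x (Finsupp.single none 1) = u := by simp [x]
    have h2 : c' (Finsupp.single none 1) = ∑ j, c j • Finsupp.single j (1 : A) :=
      (Finsupp.univ_sum_single _).symm.trans (Finset.sum_congr rfl fun j _ => by simp [c])
    rw [← h1, hxy, LinearMap.comp_apply, h2, map_sum]
    exact Finset.sum_congr rfl fun j _ => by rw [map_smul, Algebra.smul_def]
  have hc : ∀ j, ∀ g ∈ maximalIdeal A ^ n, g * c j ∈ Ideal.span {a} := by
    intro j g hg
    rw [← hG] at hg
    induction hg using Submodule.span_induction with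
    | mem g hg =>
      have h := LinearMap.congr_fun hcf (Finsupp.single ⟨g, hg⟩ 1)
      simp only [f, LinearMap.comp_apply, Finsupp.linearCombination_single, one_smul, LinearMap.zero_apply,
        map_sub] at h
      rw [← Finsupp.smul_single_one, ← Finsupp.smul_single_one (some _) a, map_smul, map_smul,
        sub_eq_zero] at h
      have h' := DFunLike.congr_fun h j
      simp only [Finsupp.smul_apply, smul_eq_mul] at h'
      exact Ideal.mem_span_singleton'.2 ⟨_, by rw [mul_comm]; exact h'.symm⟩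
    | zero => simp
    | add _ _ _ _ hy hz => rw [add_mul]; exact add_mem hy hz
    | smul r _ _ hy => rw [smul_eq_mul, mul_assoc]; exact Ideal.mul_mem_left _ r hy
  have hK : (maximalIdeal A).FG := IsNoetherian.noetherian _
  choose d hd using fun j => AdicRingLib.exists_sub_mem_map_pow hK (n + 1) (ys j)
  have key : u - algebraMap A Â (∑ j, c j * d j) ∈
      Ideal.span {algebraMap A Â a} * maximalIdeal Â := by
    rw [hu', map_sum, ← Finset.sum_sub_distrib]
    refine sum_mem fun j _ => ?_
    rw [map_mul, ← mul_sub]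
    have h1 : algebraMap A Â (c j) * (ys j - algebraMap A Â (d j)) ∈
        (Ideal.span {c j} * maximalIdeal A ^ (n + 1)).map (algebraMap A Â) := by
      rw [Ideal.map_mul, Ideal.map_span, Set.image_singleton]
      exact Ideal.mul_mem_mul (Ideal.mem_span_singleton_self _) (hd j)
    have h2 : Ideal.span {c j} * maximalIdeal A ^ (n + 1) ≤ Ideal.span {a} * maximalIdeal A := by
      rw [pow_succ, ← mul_assoc]
      exact Ideal.mul_mono_left (Ideal.span_singleton_mul_le_iff.2 fun g hg => by
        rw [mul_comm]; exact hc j g hg)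
    have := Ideal.map_mono h2 h1
    rwa [Ideal.map_mul, Ideal.map_span, Set.image_singleton, ← AdicCompletion.maximalIdeal_eq_map] at this
  obtain ⟨w, hw, hw'⟩ := Ideal.mem_span_singleton_mul.1 key
  exact ⟨∑ j, c j * d j, -w, neg_mem hw, by rw [mul_neg, hw']; ring⟩

theorem height_le_one_of_comap_C_eq_bot {A : Type u} [CommRing A] [IsDomain A] [IsNoetherianRing A]
    (p : Ideal A[X]) [p.IsPrime] (hpC : ∀ r : A, Polynomial.C r ∈ p → r = 0) : p.height ≤ 1 := by
  letI : Algebra A[X] (FractionRing A)[X] := Polynomial.algebra A (FractionRing A)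
  haveI : IsLocalization (A⁰.map Polynomial.C) (FractionRing A)[X] := Polynomial.isLocalization _ _
  have hdisj : Disjoint (A⁰.map Polynomial.C : Set A[X]) p :=
    Set.disjoint_left.2 fun x ⟨r, hr, hrx⟩ hx => nonZeroDivisors.ne_zero hr (hpC r (hrx ▸ hx))
  rw [← IsLocalization.height_map_of_disjoint (A⁰.map Polynomial.C) (S := (FractionRing A)[X]) p hdisj]
  haveI := IsLocalization.isPrime_of_isPrime_disjoint _ (FractionRing A)[X] p inferInstance hdisj
  have h := Ideal.height_le_ringKrullDim_of_ne_top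
    (Ideal.IsPrime.ne_top' : p.map (algebraMap A[X] (FractionRing A)[X]) ≠ ⊤)
  rw [Polynomial.ringKrullDim_of_isNoetherianRing, ringKrullDim_eq_zero_of_field, zero_add] at h
  exact_mod_cast h

variable {A : Type u} [CommRing A] [IsLocalRing A] [IsNoetherianRing A] [IsDomain A]

/-- The branch of dimension one forces dimension one. -/
theorem height_maximalIdeal_le_one (hA : CAlg.IsCatenary A[X])
    (Q : Ideal (AdicCompletion (maximalIdeal A) A)) (hQ : Q ∈ minimalPrimes _)
    (hne : Q ≠ maximalIdeal _)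
    (h1 : ∀ P : Ideal (AdicCompletion (maximalIdeal A) A), P.IsPrime → Q < P → P = maximalIdeal _) :
    (maximalIdeal A).height ≤ 1 := by
  haveI := isNoetherianRing_cpl A
  let Â := AdicCompletion (maximalIdeal A) A
  haveI := hQ.1.1
  have hQA : Q.comap (algebraMap A Â) = ⊥ := by
    refine under_eq_of_mem_minimalPrimes (A := A) (p := (⊥ : Ideal A)) ?_
    rw [Ideal.map_bot]; exact hQ
  by_cases hfield : maximalIdeal A = ⊥
  · rw [hfield, Ideal.height_bot]; exact zero_le_one
  obtain ⟨q, J, hqJ, hJQ, hqQ, hq⟩ := exists_split Q hQ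
  have hrad : maximalIdeal Â ≤ (q ⊔ J).radical := by
    rw [Ideal.radical_eq_sInf]
    refine le_sInf fun P hP => le_of_eq (h1 P hP.2 (lt_of_le_of_ne ?_ ?_)).symm
    · exact hq P hP.2 (le_sup_left.trans hP.1)
    · rintro rfl; exact hJQ (le_sup_right.trans hP.1)
  obtain ⟨n, hn⟩ := Ideal.exists_pow_le_of_le_radical_of_fg hrad (IsNoetherian.noetherian _)
  obtain ⟨a0, ha0, ha0'⟩ := Submodule.exists_mem_ne_zero_of_ne_bot hfield
  set a := a0 ^ (n + 1)
  have hane : a ≠ 0 := pow_ne_zero _ ha0'
  have hmap : ∀ g ∈ maximalIdeal A ^ n, algebraMap A Â g ∈ q ⊔ J := fun g hg => hn (by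
    rw [AdicCompletion.maximalIdeal_eq_map, ← Ideal.map_pow]; exact Ideal.mem_map_of_mem _ hg)
  obtain ⟨u, hu, v, hv, huv⟩ := Submodule.mem_sup.1
    (hmap a (Ideal.pow_le_pow_right (Nat.le_succ n) (Ideal.pow_mem_pow ha0 _)))
  have hmul : ∀ x ∈ q, ∀ y ∈ J, x * y = 0 := fun x hx y hy => by
    simpa [hqJ] using Ideal.mul_mem_mul hx hy
  have hu' : ∀ g ∈ maximalIdeal A ^ n, algebraMap A Â g * u ∈ Ideal.span {algebraMap A Â a} := by
    intro g hg
    obtain ⟨x, hx, y, hy, hxy⟩ := Submodule.mem_sup.1 (hmap g hg)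
    refine Ideal.mem_span_singleton'.2 ⟨x, ?_⟩
    rw [← huv, ← hxy, mul_add, add_mul, hmul x hx v hv, mul_comm y u, hmul u hu y hy]
  obtain ⟨b, w, hw, hb⟩ := exists_approx a n u hu'
  let K := FractionRing A
  let e : K := algebraMap A K b / algebraMap A K a
  let p : Ideal A[X] := RingHom.ker (Polynomial.aeval e : A[X] →ₐ[A] K)
  haveI : p.IsPrime := RingHom.ker_isPrime _
  have hlin : Polynomial.C a * Polynomial.X - Polynomial.C b ∈ p := by
    have : algebraMap A K a ≠ 0 := by
      rwa [Ne, map_eq_zero_iff _ (IsFractionRing.injective A K)]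
    simp [p, RingHom.mem_ker, e, mul_div_cancel₀ _ this]
  have hpC : ∀ r : A, Polynomial.C r ∈ p → r = 0 := fun r hr => by
    simpa [p, RingHom.mem_ker] using hr
  -- the branch
  let θ : A →+* FractionRing (Â ⧸ Q) :=
    (algebraMap (Â ⧸ Q) _).comp ((Ideal.Quotient.mk Q).comp (algebraMap A Â))
  have hθ : Function.Injective θ := by
    refine (IsFractionRing.injective (Â ⧸ Q) _).comp ((injective_iff_map_eq_zero _).2 fun r hr => ?_)
    have : r ∈ Q.comap (algebraMap A Â) := Ideal.mem_comap.2 (Ideal.Quotient.eq_zero_iff_mem.1 hr)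
    rwa [hQA] at this
  let χ : K →+* FractionRing (Â ⧸ Q) := IsFractionRing.lift hθ
  let wQ : FractionRing (Â ⧸ Q) := algebraMap (Â ⧸ Q) _ (Ideal.Quotient.mk Q w)
  have hχ : ∀ r, χ (algebraMap A K r) = θ r := fun r => IsFractionRing.lift_algebraMap hθ r
  have hχe : χ e = wQ := by
    have h0 : θ b = θ a * wQ := by
      show algebraMap (Â ⧸ Q) _ (Ideal.Quotient.mk Q (algebraMap A Â b)) = _
      rw [hb, map_add, Ideal.Quotient.eq_zero_iff_mem.2 (hqQ hu), zero_add]
      simp only [θ, wQ, RingHom.comp_apply, map_mul]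
      rfl
    rw [map_div₀, hχ, hχ, h0, mul_div_cancel_left₀ _ ((map_ne_zero_iff θ hθ).2 hane)]
  letI : Algebra A[X] Â[X] := Polynomial.algebra A Â
  haveI : Module.Flat A[X] Â[X] := Module.Flat.isBaseChange (R := A) (S := A[X]) (M := Â) Â[X]
    (Algebra.IsPushout.out (R := A) (S := A[X]) (R' := Â) (S' := Â[X]))
  let φ : Â[X] →+* Â := (Polynomial.aeval w : Â[X] →ₐ[Â] Â).toRingHom
  let φ0 : Â[X] →+* Â := Polynomial.constantCoeff
  haveI := (maximalIdeal.isMaximal Â)
  let M : Ideal Â[X] := (maximalIdeal Â).comap φ0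
  haveI : M.IsMaximal := Ideal.comap_isMaximal_of_surjective φ0 Polynomial.constantCoeff_surjective
  have hpM : p.map (algebraMap A[X] Â[X]) ≤ M := by
    refine Ideal.map_le_iff_le_comap.2 fun f hf => ?_
    show (f.map (algebraMap A Â)).coeff 0 ∈ maximalIdeal Â
    have h2 : (f.map (algebraMap A Â)).eval w ∈ Q := by
      have h3 : f.eval₂ θ wQ = 0 := by
        have h4 : χ (Polynomial.aeval e f) = 0 := by rw [RingHom.mem_ker.1 hf, map_zero]
        rwa [Polynomial.aeval_def, Polynomial.hom_eval₂, show χ.comp (algebraMap A K) = θ from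
          RingHom.ext hχ, hχe] at h4
      rw [show f.eval₂ θ wQ = algebraMap (Â ⧸ Q) _ (Ideal.Quotient.mk Q (f.eval₂ (algebraMap A Â) w)) by
        rw [Polynomial.hom_eval₂, Polynomial.hom_eval₂]] at h3
      rw [Polynomial.eval_map]
      exact Ideal.Quotient.eq_zero_iff_mem.1 ((map_eq_zero_iff _ (IsFractionRing.injective (Â ⧸ Q) _)).1 h3)
    have h5 : (f.map (algebraMap A Â)).eval w - (f.map (algebraMap A Â)).eval 0 ∈ maximalIdeal Â := by
      obtain ⟨c, hc⟩ := Polynomial.sub_dvd_eval_sub w 0 (f.map (algebraMap A Â))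
      rw [hc, sub_zero]; exact Ideal.mul_mem_right _ _ hw
    rw [Polynomial.coeff_zero_eq_eval_zero]
    exact (Submodule.sub_mem_iff_right _ (le_maximalIdeal hQ.1.1.ne_top h2)).1 h5
  have key : ∀ P ∈ (p.map (algebraMap A[X] Â[X])).minimalPrimes, P ≤ M →
      ∀ P' : Ideal Â[X], P'.IsPrime → P < P' → P' ≤ M → P' ≠ M → False := by
    intro P hP hPM
    haveI := hP.1.1
    have hPp : P.comap (algebraMap A[X] Â[X]) = p := under_eq_of_mem_minimalPrimes hP
    have hwM : Polynomial.C w ∈ M := by simpa [M, φ0] using hw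
    have hXM : (Polynomial.X : Â[X]) ∈ M := by simp [M, φ0]
    have halg : ∀ r : A, algebraMap A[X] Â[X] (Polynomial.C r) = Polynomial.C (algebraMap A Â r) := fun r => by
      simp [Polynomial.algebraMap_def]
    have haP : Polynomial.C (algebraMap A Â a) ∉ P := fun h => hane (hpC a (by
      rw [← hPp, Ideal.mem_comap, halg]; exact h))
    have hlinP : Polynomial.C (algebraMap A Â a) * Polynomial.X - Polynomial.C (u + algebraMap A Â a * w) ∈ P := by
      have : algebraMap A[X] Â[X] (Polynomial.C a * Polynomial.X - Polynomial.C b) ∈ P := by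
        rw [← Ideal.mem_comap, hPp]; exact hlin
      rw [map_sub, map_mul, halg, halg, hb] at this
      simpa [Polynomial.algebraMap_def] using this
    have huvP : Polynomial.C u * Polynomial.C v ∈ P := by
      rw [← map_mul, hmul u hu v hv, map_zero]; exact zero_mem _
    have hvP : Polynomial.C v ∉ P := by
      intro hvP
      have : Polynomial.C (algebraMap A Â a) * (Polynomial.X - Polynomial.C w - 1) ∈ P := by
        have := Ideal.sub_mem _ hlinP hvP
        convert this using 1
        rw [← huv]; simp only [map_add, map_mul]; ring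
      have h := hPM ((Ideal.IsPrime.mem_or_mem inferInstance this).resolve_left haP)
      exact (inferInstance : M.IsMaximal).ne_top ((Ideal.eq_top_iff_one _).2 (by
        have := Ideal.sub_mem _ (Ideal.sub_mem _ hXM hwM) h
        simpa using this))
    have huP : Polynomial.C u ∈ P := (Ideal.IsPrime.mem_or_mem inferInstance huvP).resolve_right hvP
    have hXw : Polynomial.X - Polynomial.C w ∈ P := by
      have : Polynomial.C (algebraMap A Â a) * (Polynomial.X - Polynomial.C w) ∈ P := by
        have := Ideal.add_mem _ hlinP huP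
        convert this using 1
        simp only [map_add, map_mul]; ring
      exact (Ideal.IsPrime.mem_or_mem inferInstance this).resolve_left haP
    have hQP : Q ≤ P.comap Polynomial.C := hq _ (Ideal.comap_isPrime _ _) fun x hx => by
      have h0 : Polynomial.C x * Polynomial.C v = (0 : Â[X]) := by rw [← map_mul, hmul x hx v hv, map_zero]
      exact (Ideal.IsPrime.mem_or_mem inferInstance (h0 ▸ zero_mem P :
        Polynomial.C x * Polynomial.C v ∈ P)).resolve_right hvP
    have hchain : ∀ P' : Ideal Â[X], P'.IsPrime → P < P' → P' ≤ M → P' = M := by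
      intro P' hP' hlt hle
      have hφ : Function.Surjective φ := fun x => ⟨Polynomial.C x, by simp [φ]⟩
      have hrep : ∀ f : Â[X], f - Polynomial.C (φ f) ∈ P := fun f => by
        refine Ideal.mem_of_dvd _ ?_ hXw
        simpa [φ, Polynomial.coe_aeval_eq_eval] using Polynomial.X_sub_C_dvd_sub_C_eval (a := w) (p := f)
      have hlt' : P.comap Polynomial.C < P'.comap Polynomial.C := by
        refine lt_of_le_of_ne (Ideal.comap_mono hlt.le) fun heq => ?_
        obtain ⟨f, hf', hf⟩ := SetLike.exists_of_lt hlt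
        have h6 : φ f ∈ P'.comap Polynomial.C := by
          have := Ideal.sub_mem _ hf' (hlt.le (hrep f))
          simpa using this
        rw [← heq, Ideal.mem_comap] at h6
        exact hf (by simpa using Ideal.add_mem _ (hrep f) h6)
      have h7 := h1 _ (Ideal.comap_isPrime _ _) (lt_of_le_of_lt hQP hlt')
      refine le_antisymm hle fun f hf => ?_
      have h8 : f - Polynomial.C (φ f) ∈ P' := hlt.le (hrep f)
      have h9 : φ f ∈ maximalIdeal Â := by
        have := Ideal.sub_mem _ hf (hle h8)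
        simpa [M, φ0] using this
      rw [← h7, Ideal.mem_comap] at h9
      simpa using Ideal.add_mem _ h8 h9
    exact fun P' hP' hlt hle hne' => hne' (hchain P' hP' hlt hle)
  let M0 : Ideal A[X] := M.comap (algebraMap A[X] Â[X])
  have hM0 : M0 = (maximalIdeal A).comap Polynomial.constantCoeff := by
    ext f
    show (f.map (algebraMap A Â)).coeff 0 ∈ maximalIdeal Â ↔ f.coeff 0 ∈ maximalIdeal A
    rw [Polynomial.coeff_map, ← Ideal.mem_comap, maximalIdeal_comap]
  haveI : M0.IsMaximal := by
    rw [hM0]; exact Ideal.comap_isMaximal_of_surjective _ Polynomial.constantCoeff_surjective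
  haveI : M0.LiesOver (maximalIdeal A) := ⟨by
    rw [hM0]; ext r; simp [Ideal.under]⟩
  have hlt : p < M0 := by
    refine lt_of_le_of_ne (Ideal.map_le_iff_le_comap.1 hpM) fun heq => ha0' (hpC a0 ?_)
    rw [heq, hM0]; simpa using ha0
  have hcov : (⟨p, inferInstance⟩ : PrimeSpectrum A[X]) ⋖ ⟨M0, inferInstance⟩ := by
    refine ⟨hlt, fun r hr hr' => ?_⟩
    haveI : M.LiesOver (M.under A[X]) := ⟨rfl⟩
    obtain ⟨P', hP'M, hP', hover⟩ := Ideal.exists_ideal_le_liesOver_of_le (p := r.asIdeal) (q := M.under A[X]) M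
      (show r.asIdeal ≤ M0 from le_of_lt hr')
    haveI := hP'
    have hne' : P' ≠ M := fun h => (show r.asIdeal ≠ M0 from ne_of_lt hr') (by rw [hover.over, h])
    obtain ⟨P'', hP'', hle''⟩ := Ideal.exists_minimalPrimes_le
      (I := p.map (algebraMap A[X] Â[X])) (J := P') (Ideal.map_le_iff_le_comap.2 (by
        rw [← Ideal.under_def, ← hover.over]; exact le_of_lt hr))
    have hlt'' : P'' < P' := lt_of_le_of_ne hle'' fun h => (show p ≠ r.asIdeal from ne_of_lt hr) (by
      rw [← under_eq_of_mem_minimalPrimes hP'', h, hover.over])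
    exact key P'' hP'' (hle''.trans hP'M) P' hP' hlt'' hP'M hne'
  have h3 := isCatenary_height_covBy hA hcov
  have hp : p.height ≤ 1 := height_le_one_of_comap_C_eq_bot p hpC
  have h4 := Polynomial.height_eq_height_add_one (maximalIdeal A) M0
  rw [show (⟨M0, _⟩ : PrimeSpectrum A[X]).asIdeal.height = M0.height from rfl, h4] at h3
  exact ((ENat.add_le_add_iff_right ENat.one_ne_top).1 h3.le).trans hp

theorem isFormallyEquidim_of_isUniversallyCatenary : ∀ (d : ℕ) (A : Type u) [CommRing A] [IsLocalRing A]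
    [IsNoetherianRing A] [IsDomain A], CAlg.IsUniversallyCatenary A → ringKrullDim A = (d : ℕ) →
    IsFormallyEquidim A := by
  intro d
  induction d using Nat.strong_induction_on with
  | _ d ih =>
  intro A _ _ _ _ hA hd
  haveI := isNoetherianRing_cpl A
  let Â := AdicCompletion (maximalIdeal A) A
  have hdÂ : ringKrullDim Â = (d : ℕ) := (ringKrullDim_cpl A).trans hd
  intro Q hQ
  haveI := hQ.1.1
  haveI := Ideal.Quotient.nontrivial_iff.2 hQ.1.1.ne_top
  haveI : IsLocalRing (Â ⧸ Q) := IsLocalRing.of_surjective' _ Ideal.Quotient.mk_surjective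
  obtain ⟨r, hr⟩ := exists_ringKrullDim_eq (R := Â ⧸ Q)
  have hrd : r ≤ d := by
    have := ringKrullDim_quotient_le (R := Â) Q
    rw [hr, hdÂ] at this
    exact_mod_cast this
  show ringKrullDim (Â ⧸ Q) = ringKrullDim Â
  rw [hr, hdÂ]
  suffices r = d by rw [this]
  have hQcomap : Q.comap (algebraMap A Â) = ⊥ := by
    refine under_eq_of_mem_minimalPrimes (A := A) (p := (⊥ : Ideal A)) ?_
    rw [Ideal.map_bot]; exact hQ
  have hmÂ : ringKrullDim Â = ((maximalIdeal Â).height : WithBot ℕ∞) :=
    IsLocalRing.maximalIdeal_height_eq_ringKrullDim.symm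
  have hlen : ∀ P : Ideal Â, P.IsPrime → Q < P → P ≠ maximalIdeal Â → 2 ≤ r := by
    intro P hP hQP hPm
    let s : LTSeries (PrimeSpectrum Â) := LTSeries.mk 2
      ![⟨Q, inferInstance⟩, ⟨P, hP⟩, ⟨maximalIdeal Â, inferInstance⟩] (Fin.strictMono_iff_lt_succ.2 fun i => by
        fin_cases i
        · exact hQP
        · show P < maximalIdeal Â
          exact lt_of_le_of_ne (le_maximalIdeal hP.ne_top) hPm)
    obtain ⟨t, ht, -⟩ := length_le_dim_quotient s Q le_rfl
    have h := Order.LTSeries.length_le_krullDim t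
    rw [ht] at h
    have h' : ((2 : ℕ) : WithBot ℕ∞) ≤ ringKrullDim (Â ⧸ Q) := h
    rw [hr] at h'
    exact_mod_cast h'
  by_cases hQm : Q = maximalIdeal Â
  · have : (d : ℕ∞) = 0 := by
      have h := hdÂ
      rw [hmÂ, Ideal.height_eq_zero_iff.2 (hQm ▸ hQ)] at h
      exact_mod_cast h.symm
    norm_cast at this
    omega
  have hr0 : 1 ≤ r := by
    let s : LTSeries (PrimeSpectrum Â) := LTSeries.mk 1
      ![⟨Q, inferInstance⟩, ⟨maximalIdeal Â, inferInstance⟩] (Fin.strictMono_iff_lt_succ.2 fun i => by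
        fin_cases i
        show Q < maximalIdeal Â
        exact lt_of_le_of_ne (le_maximalIdeal hQ.1.1.ne_top) hQm)
    obtain ⟨t, ht, -⟩ := length_le_dim_quotient s Q le_rfl
    have h := Order.LTSeries.length_le_krullDim t
    rw [ht] at h
    have h' : ((1 : ℕ) : WithBot ℕ∞) ≤ ringKrullDim (Â ⧸ Q) := h
    rw [hr] at h'
    exact_mod_cast h'
  rcases Nat.lt_or_ge r 2 with hr2 | hr2
  · have h1 := height_maximalIdeal_le_one (hA.2 A[X] inferInstance) Q hQ hQm fun P hP hQP => by
      by_contra hne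
      exact absurd (hlen P hP hQP hne) (by omega)
    have h := hd
    rw [← IsLocalRing.maximalIdeal_height_eq_ringKrullDim] at h
    have h' : (maximalIdeal A).height = (d : ℕ∞) := by exact_mod_cast h
    rw [h'] at h1
    norm_cast at h1
    omega
  let S : Set (Ideal Â) := ⋃ Q' ∈ (minimalPrimes Â \ {Q}), (Q ⊔ Q').minimalPrimes
  have hS : (S \ {maximalIdeal Â}).Finite :=
    ((Set.Finite.sdiff (minimalPrimes.finite_of_isNoetherianRing Â)).biUnion fun Q' _ =>
      Ideal.finite_minimalPrimes_of_isNoetherianRing Â _).sdiff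
  obtain ⟨a, ham, ha⟩ : ∃ a ∈ maximalIdeal A, ∀ P ∈ insert Q (S \ {maximalIdeal Â}), algebraMap A Â a ∉ P := by
    classical
    let F := (hS.insert Q).toFinset
    have hF : ∀ P ∈ F, P.IsPrime ∧ P ≠ maximalIdeal Â := by
      intro P hP
      rcases (hS.insert Q).mem_toFinset.1 hP with rfl | ⟨hPS, hPm⟩
      · exact ⟨inferInstance, hQm⟩
      · obtain ⟨Q', -, hP'⟩ := Set.mem_iUnion₂.1 hPS
        exact ⟨hP'.1.1, hPm⟩
    by_contra hcon
    have hsub : (maximalIdeal A : Set A) ⊆ ⋃ P ∈ (F : Set (Ideal Â)), ((P.comap (algebraMap A Â) : Ideal A) : Set A) := by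
      intro x hx
      by_contra hx'
      exact hcon ⟨x, hx, fun P hP hxP => hx' (Set.mem_biUnion ((hS.insert Q).mem_toFinset.2 hP) hxP)⟩
    obtain ⟨P, hP, hmP⟩ := (Ideal.subset_union_prime ⊥ ⊥ (fun P hP _ _ => by
      haveI := (hF P hP).1; exact Ideal.comap_isPrime _ _)).1 hsub
    refine (hF P hP).2 (((maximalIdeal.isMaximal Â).eq_of_le (hF P hP).1.ne_top ?_).symm)
    rw [AdicCompletion.maximalIdeal_eq_map]
    exact Ideal.map_le_iff_le_comap.2 hmP
  let α : Â := algebraMap A Â a
  have hαQ : α ∉ Q := ha Q (Set.mem_insert _ _)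
  have hαm : α ∈ maximalIdeal Â := by
    rw [AdicCompletion.maximalIdeal_eq_map]; exact Ideal.mem_map_of_mem _ ham
  obtain ⟨P1, hP1, hP1m⟩ := Ideal.exists_minimalPrimes_le (I := Q ⊔ Ideal.span {α}) (J := maximalIdeal Â)
    (sup_le (le_maximalIdeal hQ.1.1.ne_top) ((Ideal.span_singleton_le_iff_mem _).2 hαm))
  haveI := hP1.1.1
  have hQP1 : Q ≤ P1 := le_sup_left.trans hP1.1.2
  have hαP1 : α ∈ P1 := hP1.1.2 (Ideal.mem_sup_right (Ideal.mem_span_singleton_self _))
  let R' := Â ⧸ Q
  let P1' : Ideal R' := P1.map (Ideal.Quotient.mk Q)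
  haveI : P1'.IsPrime := Ideal.map_isPrime_of_surjective Ideal.Quotient.mk_surjective (by rw [Ideal.mk_ker]; exact hQP1)
  have hcm : P1'.comap (Ideal.Quotient.mk Q) = P1 := by
    rw [Ideal.comap_map_of_surjective _ Ideal.Quotient.mk_surjective, ← RingHom.ker_eq_comap_bot, Ideal.mk_ker,
      sup_eq_left.2 hQP1]
  have hP1min : P1' ∈ (Ideal.span {Ideal.Quotient.mk Q α}).minimalPrimes := by
    refine ⟨⟨inferInstance, (Ideal.span_singleton_le_iff_mem _).2 (Ideal.mem_map_of_mem _ hαP1)⟩, fun P hP hle => ?_⟩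
    haveI := hP.1
    have h1 : P1 ≤ P.comap (Ideal.Quotient.mk Q) := hP1.2 ⟨Ideal.comap_isPrime _ _,
      sup_le (fun x hx => by rw [Ideal.mem_comap, Ideal.Quotient.eq_zero_iff_mem.2 hx]; exact zero_mem _)
        ((Ideal.span_singleton_le_iff_mem _).2 (hP.2 (Ideal.mem_span_singleton_self _)))⟩
      (by rw [← hcm]; exact Ideal.comap_mono hle)
    exact (Ideal.map_le_iff_le_comap.2 h1)
  have hht1 : P1'.height ≤ 1 := by
    haveI : (Ideal.span {Ideal.Quotient.mk Q α}).IsPrincipal := ⟨⟨_, rfl⟩⟩
    exact Ideal.height_le_one_of_isPrincipal_of_mem_minimalPrimes _ _ hP1min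
  have hht0 : P1'.height ≠ 0 := fun h => hαQ (by
    have h' := Ideal.height_eq_zero_iff.1 h
    rw [IsDomain.minimalPrimes_eq_singleton_bot] at h'
    rw [← Ideal.Quotient.eq_zero_iff_mem, ← Ideal.mem_bot, ← Set.mem_singleton_iff.1 h']
    exact Ideal.mem_map_of_mem _ hαP1)
  have hht : P1'.height = 1 := le_antisymm hht1 (Order.one_le_iff_ne_zero.2 hht0)
  have hP1ne : P1 ≠ maximalIdeal Â := fun h => by
    have h' : P1' = maximalIdeal R' := by
      show P1.map _ = _
      rw [h, map_maximalIdeal_of_surjective _ Ideal.Quotient.mk_surjective]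
    have := IsLocalRing.maximalIdeal_height_eq_ringKrullDim (R := R')
    rw [← h', hht, hr] at this
    have : (1 : ℕ∞) = (r : ℕ∞) := by exact_mod_cast this
    norm_cast at this
    omega
  have hcov : ∀ P : Ideal Â, P.IsPrime → Q < P → P ≤ P1 → P = P1 := by
    intro P hP hQP hle
    haveI : (P.map (Ideal.Quotient.mk Q)).IsPrime :=
      Ideal.map_isPrime_of_surjective Ideal.Quotient.mk_surjective (by rw [Ideal.mk_ker]; exact hQP.le)
    have hcP : (P.map (Ideal.Quotient.mk Q)).comap (Ideal.Quotient.mk Q) = P := by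
      rw [Ideal.comap_map_of_surjective _ Ideal.Quotient.mk_surjective, ← RingHom.ker_eq_comap_bot, Ideal.mk_ker,
        sup_eq_left.2 hQP.le]
    by_contra hne
    have hlt : P.map (Ideal.Quotient.mk Q) < P1' := lt_of_le_of_ne (Ideal.map_mono hle) fun h => hne (by
      rw [← hcP, h, hcm])
    haveI : (P.map (Ideal.Quotient.mk Q)).FiniteHeight := inferInstance
    have h2 := Ideal.height_strict_mono_of_isPrime_of_isPrime hlt
    rw [hht, ENat.lt_one_iff_eq_zero, Ideal.height_eq_zero_iff, IsDomain.minimalPrimes_eq_singleton_bot,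
      Set.mem_singleton_iff] at h2
    exact hQP.ne' (by rw [← hcP, h2, ← RingHom.ker_eq_comap_bot, Ideal.mk_ker])
  have honly : ∀ Q' ∈ minimalPrimes Â, Q' ≤ P1 → Q' = Q := by
    intro Q' hQ' hle
    by_contra hne
    refine ha P1 (Set.mem_insert_of_mem _ ⟨Set.mem_iUnion₂.2 ⟨Q', ⟨hQ', hne⟩,
      ⟨inferInstance, sup_le hQP1 hle⟩, fun P hP hPle => ?_⟩, hP1ne⟩) hαP1
    refine le_of_eq (hcov P hP.1 (lt_of_le_of_ne (le_sup_left.trans hP.2) fun h => ?_) hPle).symm
    exact hne (le_antisymm (h ▸ le_sup_right.trans hP.2)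
      (hQ.2 ⟨hQ'.1.1, bot_le⟩ (h ▸ le_sup_right.trans hP.2)))
  have hP1a : P1 ∈ ((Ideal.span {a}).map (algebraMap A Â)).minimalPrimes := by
    rw [Ideal.map_span, Set.image_singleton]
    refine ⟨⟨inferInstance, (Ideal.span_singleton_le_iff_mem _).2 hαP1⟩, fun P hP hle => ?_⟩
    haveI := hP.1
    obtain ⟨Q', hQ', hQ'P⟩ := Ideal.exists_minimalPrimes_le (I := (⊥ : Ideal Â)) (J := P) bot_le
    obtain rfl := honly Q' hQ' (hQ'P.trans hle)
    exact le_of_eq (hcov P hP.1 (lt_of_le_of_ne hQ'P fun h => hαQ (h ▸ hP.2 (Ideal.mem_span_singleton_self _))) hle).symm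
  obtain ⟨hp, hP1p⟩ := under_mem_minimalPrimes hP1a
  set p := P1.comap (algebraMap A Â) with hpdef
  haveI := hp.1.1
  have hpne : p.height ≠ 0 := fun h => hαQ (by
    have h' := Ideal.height_eq_zero_iff.1 h
    rw [IsDomain.minimalPrimes_eq_singleton_bot] at h'
    have : a ∈ (⊥ : Ideal A) := Set.mem_singleton_iff.1 h' ▸ hp.1.2 (Ideal.mem_span_singleton_self _)
    rw [Ideal.mem_bot] at this
    simp [α, this])
  have hp1 : p.height = 1 := by
    haveI : (Ideal.span {a}).IsPrincipal := ⟨⟨_, rfl⟩⟩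
    exact le_antisymm (Ideal.height_le_one_of_isPrincipal_of_mem_minimalPrimes _ _ hp) (Order.one_le_iff_ne_zero.2 hpne)
  haveI := Ideal.Quotient.nontrivial_iff.2 (inferInstance : p.IsPrime).ne_top
  haveI : IsLocalRing (A ⧸ p) := IsLocalRing.of_surjective' _ Ideal.Quotient.mk_surjective
  obtain ⟨e, he⟩ := exists_ringKrullDim_eq (R := A ⧸ p)
  have hed : e + 1 = d := by
    have h := ringKrullDim_quotient_add_height_of_domain (hA.2 A inferInstance) p
    rw [he, hp1, hd] at h
    exact_mod_cast h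
  have hB := ih e (by omega) (A ⧸ p) (isUniversallyCatenary_of_finiteType A (A ⧸ p) hA) he
  have hdimB : ringKrullDim (AdicCompletion (maximalIdeal (A ⧸ p)) (A ⧸ p)) = (e : ℕ) :=
    (ringKrullDim_cpl _).trans he
  obtain ⟨E⟩ := exists_cpl_quotient_equiv (A := A) (A ⧸ p) Ideal.Quotient.mk_surjective
  have hP1p' : P1 ∈ ((RingHom.ker (algebraMap A (A ⧸ p))).map (algebraMap A Â)).minimalPrimes := by
    rw [Ideal.Quotient.algebraMap_eq, Ideal.mk_ker]; exact hP1p
  have h5 : ringKrullDim (Â ⧸ P1) = (e : ℕ) := by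
    have := (isEquidim_congr E).1 hB _ (map_mem_minimalPrimes hP1p')
    rw [ringKrullDim_quotient_quotient_map hP1p'.1.2, ← ringKrullDim_eq_of_ringEquiv E, hdimB] at this
    exact this
  have h6 := ringKrullDim_quotient_add_height_of_domain (isCatenary_quotient Q (isCatenary_cpl A)) P1'
  rw [ringKrullDim_quotient_quotient_map hQP1, h5, hht, hr] at h6
  have : e + 1 = r := by exact_mod_cast h6
  omega

/-- Ratliff: a universally catenary Noetherian local ring is formally catenary. -/
theorem isFormallyCatenary_of_isUniversallyCatenary {A : Type u} [CommRing A] [IsLocalRing A] [IsNoetherianRing A]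
    (hA : CAlg.IsUniversallyCatenary A) : IsFormallyCatenary A := by
  intro p hp
  haveI := Ideal.Quotient.nontrivial_iff.2 hp.ne_top
  haveI : IsLocalRing (A ⧸ p) := IsLocalRing.of_surjective' _ Ideal.Quotient.mk_surjective
  obtain ⟨d, hd⟩ := exists_ringKrullDim_eq (R := A ⧸ p)
  exact isFormallyEquidim_of_isUniversallyCatenary d (A ⧸ p) (isUniversallyCatenary_of_finiteType A (A ⧸ p) hA) hd

end CatLib
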