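import Groth.Agent.CatLib.Completion
import Mathlib.RingTheory.TensorProduct.MvPolynomial
import Mathlib.RingTheory.Flat.FaithfullyFlat.Algebra
import Mathlib.RingTheory.Flat.Localization

/-! Formally catenary local rings are universally catenary. -/

set_option autoImplicit false
set_option linter.style.haveILetI false
set_option maxHeartbeats 1600000
universe u

open IsLocalRing EGA4 CommAlgDim
open scoped TensorProduct

namespace CatLib

theorem isCMRing_of_ringEquiv {R S : Type u} [CommRing R] [IsNoetherianRing R] [CommRing S] [IsNoetherianRing S]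
    (e : R ≃+* S) (h : IsCMRing R) : IsCMRing S :=
  isCMRing_iff.2 (SMTLib.isCohenMacaulayRing_of_ringEquiv e (isCMRing_iff.1 h))

theorem isCMRing_mvPolynomial {R : Type u} [CommRing R] [IsNoetherianRing R] (hR : IsCMRing R) :
    ∀ n : ℕ, IsCMRing (MvPolynomial (Fin n) R)
  | 0 => isCMRing_of_ringEquiv (MvPolynomial.isEmptyRingEquiv R (Fin 0)).symm hR
  | n + 1 => by
    haveI := isCMRing_mvPolynomial hR n
    exact isCMRing_of_ringEquiv (MvPolynomial.finSuccEquiv R n).symm.toRingEquiv
      (isCMRing_polynomial (isCMRing_mvPolynomial hR n))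

theorem isUniversallyCatenary_of_mvPolynomial {A : Type u} [CommRing A] [IsNoetherianRing A]
    (h : ∀ n : ℕ, CAlg.IsCatenary (MvPolynomial (Fin n) A)) : CAlg.IsUniversallyCatenary A := by
  refine ⟨inferInstance, fun S _ _ hS => ?_⟩
  obtain ⟨n, f, hf⟩ := Algebra.FiniteType.iff_quotient_mvPolynomial''.1 hS
  exact isCatenary_of_surjective f.toRingHom hf (h n)

theorem isUniversallyCatenary_of_isCMRing {A : Type u} [CommRing A] [IsNoetherianRing A] (hA : IsCMRing A) :
    CAlg.IsUniversallyCatenary A :=
  isUniversallyCatenary_of_mvPolynomial fun n => isCatenary_of_isCMRing (isCMRing_mvPolynomial hA n)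

theorem localRingHom_surjective {R S : Type u} [CommRing R] [CommRing S] (f : R →+* S)
    (hf : Function.Surjective f) (Q : Ideal S) [Q.IsPrime] :
    Function.Surjective (Localization.localRingHom (Q.comap f) Q f rfl) ∧
      RingHom.ker (Localization.localRingHom (Q.comap f) Q f rfl) =
        (RingHom.ker f).map (algebraMap R (Localization.AtPrime (Q.comap f))) := by
  constructor
  · intro z
    obtain ⟨a, s, rfl⟩ := IsLocalization.exists_mk'_eq Q.primeCompl z
    obtain ⟨x, rfl⟩ := hf a
    obtain ⟨y, hy⟩ := hf s.1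
    have hyQ : y ∈ (Q.comap f).primeCompl := fun h => s.2 (hy ▸ (h : f y ∈ Q))
    refine ⟨IsLocalization.mk' _ x (⟨y, hyQ⟩ : (Q.comap f).primeCompl), ?_⟩
    rw [Localization.localRingHom_mk']
    congr 1
    exact Subtype.ext hy
  · refine le_antisymm (fun z hz => ?_) (Ideal.map_le_iff_le_comap.2 fun x hx => ?_)
    · obtain ⟨a, s, rfl⟩ := IsLocalization.exists_mk'_eq (Q.comap f).primeCompl z
      rw [RingHom.mem_ker, Localization.localRingHom_mk', IsLocalization.mk'_eq_zero_iff] at hz
      obtain ⟨⟨w, hw⟩, hwa⟩ := hz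
      obtain ⟨v, rfl⟩ := hf w
      rw [IsLocalization.mk'_mem_map_algebraMap_iff (Q.comap f).primeCompl]
      exact ⟨v, hw, by rw [RingHom.mem_ker, map_mul]; exact hwa⟩
    · rw [Ideal.mem_comap, RingHom.mem_ker, Localization.localRingHom_to_map, hx, map_zero]

/-- Localizations of the quotient of a Cohen–Macaulay ring by an ideal of pure height are equidimensional
and catenary. -/
theorem equidim_catenary_localization_of_pure {R S : Type u} [CommRing R] [IsNoetherianRing R] [CommRing S]
    (hR : IsCMRing R) (f : R →+* S) (hf : Function.Surjective f) {h : ℕ}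
    (hpure : ∀ P ∈ (RingHom.ker f).minimalPrimes, P.height = (h : ℕ∞)) (Q : Ideal S) [Q.IsPrime] :
    IsEquidim (Localization.AtPrime Q) ∧ CAlg.IsCatenary (Localization.AtPrime Q) := by
  let T := Localization.AtPrime (Q.comap f)
  haveI : IsNoetherianRing T := IsLocalization.isNoetherianRing (Q.comap f).primeCompl _ inferInstance
  obtain ⟨hψ, hker⟩ := localRingHom_surjective f hf Q
  set ψ := Localization.localRingHom (Q.comap f) Q f rfl
  have e := RingHom.quotientKerEquivOfSurjective hψ
  haveI : Nontrivial (T ⧸ RingHom.ker ψ) := e.toEquiv.nontrivial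
  have hT : IsCM T := hR _
  refine ⟨isEquidim_of_ringEquiv e (isEquidim_quotient_of_height (isEquidim_of_isCM hT)
    (isCatenary_of_isCM hT) _ (h := h) fun P hP => ?_).1, isCatenary_of_surjective ψ hψ (isCatenary_of_isCM hT)⟩
  rw [hker, IsLocalization.minimalPrimes_map (Q.comap f).primeCompl] at hP
  haveI := hP.1.1
  rw [← IsLocalization.height_under (Q.comap f).primeCompl P]
  exact hpure _ hP

attribute [local instance] MvPolynomial.algebraMvPolynomial

/-- Localizations of polynomial rings over a formally equidimensional ring. -/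
theorem equidim_catenary_polynomial {A : Type u} [CommRing A] [IsLocalRing A] [IsNoetherianRing A]
    (h : IsFormallyEquidim A) (n : ℕ) (q : Ideal (MvPolynomial (Fin n) A)) [q.IsPrime] :
    IsEquidim (Localization.AtPrime q) ∧ CAlg.IsCatenary (Localization.AtPrime q) := by
  let Â := AdicCompletion (maximalIdeal A) A
  let R := MvPolynomial (Fin n) A
  let R' := MvPolynomial (Fin n) Â
  haveI : IsNoetherianRing Â := isNoetherianRing_cpl A
  haveI : Module.FaithfullyFlat A Â := Module.FaithfullyFlat.of_flat_of_isLocalHom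
  haveI : Module.FaithfullyFlat R R' :=
    Module.FaithfullyFlat.of_linearEquiv (M := R ⊗[A] Â) R (Algebra.IsPushout.equiv A R Â R').symm.toLinearEquiv
  obtain ⟨⟨Q, hQ⟩, hQq⟩ := PrimeSpectrum.comap_surjective_of_faithfullyFlat (B := R') (⟨q, inferInstance⟩ : PrimeSpectrum R)
  replace hQq : Q.comap (algebraMap R R') = q := congrArg PrimeSpectrum.asIdeal hQq
  haveI : Q.LiesOver q := ⟨hQq.symm⟩
  obtain ⟨C, _, _, _, f, hC, hf⟩ := exists_cm_surjective Â
  let φ : MvPolynomial (Fin n) C →+* R' := MvPolynomial.map f
  have e := RingHom.quotientKerEquivOfSurjective hf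
  haveI : Nontrivial (C ⧸ RingHom.ker f) := e.toEquiv.nontrivial
  obtain ⟨d, hd⟩ := exists_ringKrullDim_eq (R := Â)
  obtain ⟨m, hm⟩ := exists_ringKrullDim_eq (R := C)
  have hpure : ∀ P ∈ (RingHom.ker φ).minimalPrimes, P.height = ((m - d : ℕ) : ℕ∞) := by
    intro P hP
    rw [MvPolynomial.ker_map] at hP
    obtain ⟨h1, h2⟩ := under_mem_minimalPrimes (B := MvPolynomial (Fin n) C) hP
    haveI := h1.1.1
    rw [height_eq_of_mem_minimalPrimes h2]
    have h3 := ringKrullDim_quotient_add_height hC (P.comap (algebraMap C (MvPolynomial (Fin n) C)))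
    have h4 : ringKrullDim (C ⧸ P.comap (algebraMap C (MvPolynomial (Fin n) C))) = ringKrullDim Â := by
      rw [← ringKrullDim_quotient_quotient_map h1.1.2, ← ringKrullDim_eq_of_ringEquiv e]
      exact isEquidim_of_ringEquiv e.symm h _ (map_mem_minimalPrimes h1)
    obtain ⟨k, hk⟩ := ENat.ne_top_iff_exists.1 (Ideal.height_ne_top h1.1.1.ne_top :
      (P.comap (algebraMap C (MvPolynomial (Fin n) C))).height ≠ ⊤)
    rw [h4, hd, hm, ← hk] at h3
    rw [← hk]
    have : d + k = m := by exact_mod_cast h3
    exact_mod_cast (by omega : k = m - d)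
  obtain ⟨heq, hcat⟩ := equidim_catenary_localization_of_pure (isCMRing_mvPolynomial (isCMRing_of_isCM hC) n) φ
    (MvPolynomial.map_surjective f hf) hpure Q
  haveI : IsNoetherianRing (Localization.AtPrime q) := IsLocalization.isNoetherianRing q.primeCompl _ inferInstance
  haveI : IsNoetherianRing (Localization.AtPrime Q) := IsLocalization.isNoetherianRing Q.primeCompl _ inferInstance
  letI : Algebra (Localization.AtPrime q) (Localization.AtPrime Q) :=
    (Localization.localRingHom q Q (algebraMap R R') hQq.symm).toAlgebra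
  haveI : IsScalarTower R (Localization.AtPrime q) (Localization.AtPrime Q) :=
    IsScalarTower.of_algebraMap_eq fun x => by
      rw [RingHom.algebraMap_toAlgebra, Localization.localRingHom_to_map, IsScalarTower.algebraMap_apply R R']
  haveI : IsLocalHom (algebraMap (Localization.AtPrime q) (Localization.AtPrime Q)) :=
    Localization.isLocalHom_localRingHom q Q _ _
  haveI : Module.Flat R (Localization.AtPrime Q) := Module.Flat.trans R R' _
  haveI : Module.Flat (Localization.AtPrime q) (Localization.AtPrime Q) :=
    (Module.flat_iff_of_isLocalization (Localization.AtPrime q) q.primeCompl _).2 inferInstance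
  exact equidim_catenary_descent heq hcat

theorem isCatenary_mvPolynomial_of_isFormallyCatenary {A : Type u} [CommRing A] [IsLocalRing A]
    [IsNoetherianRing A] (h : IsFormallyCatenary A) (n : ℕ) : CAlg.IsCatenary (MvPolynomial (Fin n) A) := by
  refine isCatenary_iff_quotient_minimal.2 fun P hP => ?_
  haveI := hP.1.1
  let p := P.comap (MvPolynomial.C : A →+* MvPolynomial (Fin n) A)
  haveI : IsLocalRing (A ⧸ p) := IsLocalRing.of_surjective' _ Ideal.Quotient.mk_surjective
  have hker : RingHom.ker (MvPolynomial.map (Ideal.Quotient.mk p) :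
      MvPolynomial (Fin n) A →+* MvPolynomial (Fin n) (A ⧸ p)) ≤ P := by
    rw [MvPolynomial.ker_map, Ideal.mk_ker]
    exact Ideal.map_comap_le
  have hsurj := MvPolynomial.map_surjective (σ := Fin n) (Ideal.Quotient.mk p) Ideal.Quotient.mk_surjective
  have hdom : CAlg.IsCatenary (MvPolynomial (Fin n) (A ⧸ p)) :=
    isCatenary_iff_localization_maximal.2 fun M _ => (equidim_catenary_polynomial (h p) n M).2
  let e := RingHom.quotientKerEquivOfSurjective hsurj
  exact isCatenary_of_surjective (Ideal.Quotient.factor hker) (Ideal.Quotient.factor_surjective hker)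
    (isCatenary_of_ringEquiv e.symm hdom)

theorem isUniversallyCatenary_of_isFormallyCatenary {A : Type u} [CommRing A] [IsLocalRing A]
    [IsNoetherianRing A] (h : IsFormallyCatenary A) : CAlg.IsUniversallyCatenary A :=
  isUniversallyCatenary_of_mvPolynomial (isCatenary_mvPolynomial_of_isFormallyCatenary h)

end CatLib
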