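import Groth.Agent.CatLib.CM
import Groth.Prelude.Def_EGA4b
import Mathlib.RingTheory.TensorProduct.Quotient
import Mathlib.RingTheory.Flat.Stability
import Mathlib.RingTheory.Ideal.GoingDown

/-! Equidimensional catenary local rings; descent along flat local maps. -/

set_option autoImplicit false
set_option linter.style.haveILetI false
set_option maxHeartbeats 800000
universe u

open IsLocalRing EGA4 CommAlgDim

namespace CatLib

variable {R : Type u} [CommRing R]

theorem comap_mem_minimalPrimes {I : Ideal R} {P' : Ideal (R ⧸ I)} (h : P' ∈ minimalPrimes (R ⧸ I)) :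
    P'.comap (Ideal.Quotient.mk I) ∈ I.minimalPrimes := by
  rw [Ideal.minimalPrimes_eq_comap]
  exact ⟨P', h, rfl⟩

theorem map_mem_minimalPrimes {I P : Ideal R} (h : P ∈ I.minimalPrimes) :
    P.map (Ideal.Quotient.mk I) ∈ minimalPrimes (R ⧸ I) := by
  rw [Ideal.minimalPrimes_eq_comap] at h
  obtain ⟨P', hP', rfl⟩ := h
  rwa [Ideal.map_comap_of_surjective _ Ideal.Quotient.mk_surjective]

theorem ringKrullDim_quotient_quotient {I : Ideal R} (P' : Ideal (R ⧸ I)) :
    ringKrullDim ((R ⧸ I) ⧸ P') = ringKrullDim (R ⧸ P'.comap (Ideal.Quotient.mk I)) := by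
  have hI : I ≤ P'.comap (Ideal.Quotient.mk I) := fun x hx => by
    rw [Ideal.mem_comap, Ideal.Quotient.eq_zero_iff_mem.2 hx]; exact zero_mem _
  have h : P' = (P'.comap (Ideal.Quotient.mk I)).map (Ideal.Quotient.mk I) :=
    (Ideal.map_comap_of_surjective _ Ideal.Quotient.mk_surjective P').symm
  exact ringKrullDim_eq_of_ringEquiv
    ((Ideal.quotEquivOfEq h).trans (DoubleQuot.quotQuotEquivQuotOfLE hI))

theorem ringKrullDim_quotient_quotient_map {I P : Ideal R} (hIP : I ≤ P) :
    ringKrullDim ((R ⧸ I) ⧸ P.map (Ideal.Quotient.mk I)) = ringKrullDim (R ⧸ P) :=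
  ringKrullDim_eq_of_ringEquiv (DoubleQuot.quotQuotEquivQuotOfLE hIP)

theorem length_le_dim_quotient (s : LTSeries (PrimeSpectrum R)) (P : Ideal R) (h : P ≤ s.head.asIdeal) :
    ∃ t : LTSeries (PrimeSpectrum (R ⧸ P)), t.length = s.length ∧ quotEmb P t.last = s.last := by
  have hmem : ∀ i, s i ∈ Set.range (quotEmb P) := fun i => by
    rw [range_quotEmb]
    exact h.trans (s.head_le i)
  choose f hf using hmem
  refine ⟨⟨s.length, f, fun i => ?_⟩, rfl, hf _⟩
  show f i.castSucc < f i.succ
  rw [← (quotEmb P).lt_iff_lt, hf, hf]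
  exact s.step i

theorem add_nat_cancel {a b : WithBot ℕ∞} {n : ℕ}
    (h : a + ((n : ℕ∞) : WithBot ℕ∞) = b + ((n : ℕ∞) : WithBot ℕ∞)) : a = b := by
  cases a with
  | bot => cases b with
    | bot => rfl
    | coe b => rw [WithBot.bot_add, ← WithBot.coe_add] at h; exact absurd h.symm WithBot.coe_ne_bot
  | coe a => cases b with
    | bot => rw [WithBot.bot_add, ← WithBot.coe_add] at h; exact absurd h WithBot.coe_ne_bot
    | coe b =>
      rw [← WithBot.coe_add, ← WithBot.coe_add, WithBot.coe_inj] at h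
      rw [WithBot.coe_inj]
      cases a with
      | top => cases b with
        | top => rfl
        | coe b => rw [top_add] at h; exact absurd h.symm (by exact_mod_cast ENat.natCast_ne_top (b + n))
      | coe a => cases b with
        | top => rw [top_add] at h; exact absurd h (by exact_mod_cast ENat.natCast_ne_top (a + n))
        | coe b => norm_cast at h ⊢; omega

theorem exists_minimal_dim [IsLocalRing R] [IsNoetherianRing R] :
    ∃ P ∈ minimalPrimes R, ringKrullDim (R ⧸ P) = ringKrullDim R := by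
  obtain ⟨d, hd⟩ := exists_ringKrullDim_eq (R := R)
  obtain ⟨s, hs⟩ : ∃ s : LTSeries (PrimeSpectrum R), s.length = d := by
    have h : ((d : ℕ) : WithBot ℕ∞) ≤ Order.krullDim (PrimeSpectrum R) := le_of_eq hd.symm
    exact Order.le_krullDim_iff.1 h
  obtain ⟨P, hP, hPs⟩ := Ideal.exists_minimalPrimes_le (I := (⊥ : Ideal R)) (J := s.head.asIdeal) bot_le
  refine ⟨P, hP, le_antisymm (ringKrullDim_quotient_le P) ?_⟩
  obtain ⟨t, ht, -⟩ := length_le_dim_quotient s P hPs
  rw [hd, ← hs, ← ht]
  exact Order.LTSeries.length_le_krullDim t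

theorem ringKrullDim_eq_of_forall [IsLocalRing R] [IsNoetherianRing R] {e : WithBot ℕ∞}
    (h : ∀ P ∈ minimalPrimes R, ringKrullDim (R ⧸ P) = e) : IsEquidim R ∧ ringKrullDim R = e := by
  obtain ⟨P, hP, hP'⟩ := exists_minimal_dim (R := R)
  have he : ringKrullDim R = e := hP'.symm.trans (h P hP)
  exact ⟨fun Q hQ => (h Q hQ).trans he.symm, he⟩

theorem saturated_length_add_height {α : Type u} [PartialOrder α]
    (h : ∀ q r : α, q ⋖ r → Order.height r = Order.height q + 1) (s : LTSeries α) (hs : Saturated s) :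
    Order.height s.last = Order.height s.head + (s.length : ℕ∞) := by
  suffices key : ∀ (j : ℕ) (hj : j < s.length + 1), Order.height (s ⟨j, hj⟩) = Order.height s.head + (j : ℕ∞) from
    key s.length (Nat.lt_succ_self _)
  intro j
  induction j with
  | zero => intro hj; rw [Nat.cast_zero, add_zero]; rfl
  | succ j ih =>
    intro hj
    have hstep : Order.height (s ⟨j + 1, hj⟩) = Order.height (s ⟨j, by omega⟩) + 1 :=
      h _ _ (hs ⟨j, by omega⟩)
    rw [hstep, ih (by omega), add_assoc, Nat.cast_succ]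

/-- In a catenary local domain height and dimension are complementary. -/
theorem ringKrullDim_quotient_add_height_of_domain [IsDomain R] [IsLocalRing R] [IsNoetherianRing R]
    (hR : CAlg.IsCatenary R) (P : Ideal R) [P.IsPrime] :
    ringKrullDim (R ⧸ P) + (P.height : WithBot ℕ∞) = ringKrullDim R := by
  refine le_antisymm (J2Lib.ringKrullDim_quotient_add_height_le P) ?_
  let x : PrimeSpectrum R := ⟨P, inferInstance⟩
  let m : PrimeSpectrum R := ⟨maximalIdeal R, inferInstance⟩
  have hxm : x ≤ m := le_maximalIdeal (Ideal.IsPrime.ne_top inferInstance)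
  obtain ⟨s, hs1, hs2, hs, -⟩ := exists_saturated hxm (bounded_of_height height_ne_top x m)
  have hcov : ∀ q r : PrimeSpectrum R, q ⋖ r → Order.height r = Order.height q + 1 := fun q r hqr => by
    simpa only [PrimeSpectrum.height_eq_orderHeight] using isCatenary_height_covBy hR hqr
  have hlen := saturated_length_add_height hcov s hs
  rw [hs1, hs2, ← PrimeSpectrum.height_eq_orderHeight, ← PrimeSpectrum.height_eq_orderHeight] at hlen
  obtain ⟨t, ht, -⟩ := length_le_dim_quotient s P (by rw [hs1])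
  rw [← IsLocalRing.maximalIdeal_height_eq_ringKrullDim,
    show (maximalIdeal R).height = P.height + (s.length : ℕ∞) from hlen, WithBot.coe_add, add_comm]
  refine add_le_add ?_ le_rfl
  rw [← ht]
  exact Order.LTSeries.length_le_krullDim t

/-- In an equidimensional catenary local ring height and dimension are complementary. -/
theorem ringKrullDim_quotient_add_height_of_equidim [IsLocalRing R] [IsNoetherianRing R]
    (heq : IsEquidim R) (hcat : CAlg.IsCatenary R) (P : Ideal R) [P.IsPrime] :
    ringKrullDim (R ⧸ P) + (P.height : WithBot ℕ∞) = ringKrullDim R := by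
  refine le_antisymm (J2Lib.ringKrullDim_quotient_add_height_le P) ?_
  obtain ⟨n, hn⟩ := ENat.ne_top_iff_exists.1 (height_ne_top (⟨P, inferInstance⟩ : PrimeSpectrum R))
  obtain ⟨P0, hP0, hP0P⟩ := Ideal.exists_minimalPrimes_le (I := (⊥ : Ideal R)) (J := P) bot_le
  haveI := hP0.1.1
  haveI := Ideal.Quotient.nontrivial_iff.2 hP0.1.1.ne_top
  haveI : IsLocalRing (R ⧸ P0) := IsLocalRing.of_surjective' _ Ideal.Quotient.mk_surjective
  let P' := P.map (Ideal.Quotient.mk P0)
  haveI : P'.IsPrime := Ideal.map_isPrime_of_surjective Ideal.Quotient.mk_surjective (by rw [Ideal.mk_ker]; exact hP0P)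
  have h := ringKrullDim_quotient_add_height_of_domain (isCatenary_quotient P0 hcat) P'
  rw [ringKrullDim_quotient_quotient_map hP0P, heq P0 hP0] at h
  rw [← h]
  refine add_le_add le_rfl (WithBot.coe_le_coe.2 ?_)
  have h1 := Order.height_le_height_apply_of_strictMono (quotEmb P0) (quotEmb P0).strictMono
    (⟨P', inferInstance⟩ : PrimeSpectrum (R ⧸ P0))
  rw [← PrimeSpectrum.height_eq_orderHeight, ← PrimeSpectrum.height_eq_orderHeight] at h1
  have h2 : (quotEmb P0 (⟨P', inferInstance⟩ : PrimeSpectrum (R ⧸ P0))).asIdeal = P := by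
    show P'.comap (Ideal.Quotient.mk P0) = P
    rw [Ideal.comap_map_of_surjective _ Ideal.Quotient.mk_surjective, ← RingHom.ker_eq_comap_bot, Ideal.mk_ker]
    exact sup_eq_left.2 hP0P
  rw [h2] at h1
  exact h1

theorem height_map_eq_one_of_covBy {q r : PrimeSpectrum R} (hqr : q ⋖ r)
    [(r.asIdeal.map (Ideal.Quotient.mk q.asIdeal)).IsPrime] :
    (r.asIdeal.map (Ideal.Quotient.mk q.asIdeal)).height = 1 := by
  set x : PrimeSpectrum (R ⧸ q.asIdeal) := ⟨r.asIdeal.map (Ideal.Quotient.mk q.asIdeal), inferInstance⟩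
  show x.asIdeal.height = 1
  rw [PrimeSpectrum.height_eq_orderHeight]
  set η : PrimeSpectrum (R ⧸ q.asIdeal) := ⟨⊥, Ideal.isPrime_bot⟩
  have hη : ∀ z : PrimeSpectrum (R ⧸ q.asIdeal), η ≤ z := fun z => (bot_le : (⊥ : Ideal (R ⧸ q.asIdeal)) ≤ z.asIdeal)
  have hr : quotEmb q.asIdeal x = r := by
    refine PrimeSpectrum.ext ?_
    show (r.asIdeal.map (Ideal.Quotient.mk q.asIdeal)).comap (Ideal.Quotient.mk q.asIdeal) = r.asIdeal
    rw [Ideal.comap_map_of_surjective _ Ideal.Quotient.mk_surjective, ← RingHom.ker_eq_comap_bot, Ideal.mk_ker]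
    exact sup_eq_left.2 hqr.le
  have hbot : quotEmb q.asIdeal η = q := by
    refine PrimeSpectrum.ext ?_
    show Ideal.comap (Ideal.Quotient.mk q.asIdeal) ⊥ = q.asIdeal
    rw [← RingHom.ker_eq_comap_bot, Ideal.mk_ker]
  refine le_antisymm ((Order.height_le_coe_iff (n := 1)).2 fun y hy => ?_) ?_
  · rcases (hη y).eq_or_lt with h | h
    · subst h
      rw [Order.height_eq_zero.2 fun z hz => hη z]
      exact Nat.cast_lt.2 Nat.one_pos
    · refine absurd ((quotEmb q.asIdeal).strictMono hy) ?_
      rw [hr]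
      refine hqr.2 (lt_of_eq_of_lt hbot.symm ((quotEmb q.asIdeal).strictMono h))
  · refine le_trans le_add_self (Order.height_add_one_le (a := η) ?_)
    rw [← (quotEmb q.asIdeal).lt_iff_lt, hr, hbot]
    exact hqr.lt

section Flat
variable {A B : Type u} [CommRing A] [CommRing B] [Algebra A B]

theorem under_eq_of_mem_minimalPrimes [Module.Flat A B] {p : Ideal A} [p.IsPrime] {P : Ideal B}
    (hP : P ∈ (p.map (algebraMap A B)).minimalPrimes) : P.comap (algebraMap A B) = p := by
  haveI := hP.1.1
  have hle : p ≤ P.under A := Ideal.le_comap_map.trans (Ideal.comap_mono hP.1.2)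
  haveI : P.LiesOver (P.under A) := ⟨rfl⟩
  obtain ⟨P', hP'P, hP', hover⟩ := Ideal.exists_ideal_le_liesOver_of_le (p := p) (q := P.under A) P hle
  have hmap : p.map (algebraMap A B) ≤ P' := Ideal.map_le_iff_le_comap.2 (le_of_eq hover.over)
  rw [show P = P' from le_antisymm (hP.2 ⟨hP', hmap⟩ hP'P) hP'P]
  exact hover.over.symm

theorem height_eq_of_mem_minimalPrimes [IsNoetherianRing A] [IsNoetherianRing B] [Module.Flat A B] {p : Ideal A} [p.IsPrime]
    {P : Ideal B} (hP : P ∈ (p.map (algebraMap A B)).minimalPrimes) : P.height = p.height := by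
  haveI := hP.1.1
  haveI : P.LiesOver p := ⟨(under_eq_of_mem_minimalPrimes hP).symm⟩
  rw [Ideal.height_eq_height_add_of_liesOver_of_hasGoingDown p P]
  have hmin := map_mem_minimalPrimes hP
  haveI := hmin.1.1
  rw [Ideal.height_eq_zero_iff.2 hmin, add_zero]

theorem flat_quotient [Module.Flat A B] (I : Ideal A) :
    Module.Flat (A ⧸ I) (B ⧸ I.map (algebraMap A B)) := by
  let e := ((Algebra.TensorProduct.comm A (A ⧸ I) B).trans
    ((Algebra.TensorProduct.quotIdealMapEquivTensorQuot B I).restrictScalars A).symm)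
  exact Module.Flat.of_linearEquiv
    (LinearEquiv.extendScalarsOfSurjective (R := A) (S := A ⧸ I) Ideal.Quotient.mk_surjective
      e.toLinearEquiv).symm

theorem ringKrullDim_eq_add_of_flat [IsNoetherianRing A] [IsNoetherianRing B] [IsLocalRing A]
    [IsLocalRing B] [IsLocalHom (algebraMap A B)] [Module.Flat A B] :
    ringKrullDim B = ringKrullDim A + ringKrullDim (B ⧸ (maximalIdeal A).map (algebraMap A B)) := by
  set I := (maximalIdeal A).map (algebraMap A B) with hI
  have hIm : I ≤ maximalIdeal B := ((local_hom_TFAE (algebraMap A B)).out 0 2).1 ‹_›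
  haveI := Ideal.Quotient.nontrivial_iff.2 (ne_top_of_le_ne_top (maximalIdeal.isMaximal B).ne_top hIm)
  haveI : IsLocalRing (B ⧸ I) := IsLocalRing.of_surjective' _ Ideal.Quotient.mk_surjective
  haveI : (maximalIdeal B).LiesOver (maximalIdeal A) :=
    ⟨(maximalIdeal_comap (algebraMap A B)).symm⟩
  have := Ideal.height_eq_height_add_of_liesOver_of_hasGoingDown (maximalIdeal A) (maximalIdeal B)
  rw [map_maximalIdeal_of_surjective _ Ideal.Quotient.mk_surjective] at this
  rw [← IsLocalRing.maximalIdeal_height_eq_ringKrullDim, this, WithBot.coe_add,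
    IsLocalRing.maximalIdeal_height_eq_ringKrullDim, IsLocalRing.maximalIdeal_height_eq_ringKrullDim]

variable [IsNoetherianRing A] [IsNoetherianRing B] [IsLocalRing A] [IsLocalRing B]
  [IsLocalHom (algebraMap A B)] [Module.Flat A B]

theorem quotient_map_props (heq : IsEquidim B) (hcat : CAlg.IsCatenary B) (q : Ideal A) (hq : q.IsPrime) :
    IsEquidim (B ⧸ q.map (algebraMap A B)) ∧ CAlg.IsCatenary (B ⧸ q.map (algebraMap A B)) ∧
    Nontrivial (B ⧸ q.map (algebraMap A B)) ∧
    ringKrullDim (B ⧸ q.map (algebraMap A B)) + (q.height : WithBot ℕ∞) = ringKrullDim B ∧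
    ringKrullDim (A ⧸ q) + (q.height : WithBot ℕ∞) = ringKrullDim A := by
  set k := ringKrullDim (B ⧸ (maximalIdeal A).map (algebraMap A B)) with hk
  have hAB : ringKrullDim B = ringKrullDim A + k := ringKrullDim_eq_add_of_flat
  have hne : q.map (algebraMap A B) ≠ ⊤ := ne_top_of_le_ne_top (maximalIdeal.isMaximal B).ne_top
    ((Ideal.map_mono (le_maximalIdeal hq.ne_top)).trans (((local_hom_TFAE (algebraMap A B)).out 0 2).1 ‹_›))
  haveI := Ideal.Quotient.nontrivial_iff.2 hne
  haveI : IsLocalRing (B ⧸ q.map (algebraMap A B)) := IsLocalRing.of_surjective' _ Ideal.Quotient.mk_surjective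
  obtain ⟨h, hh⟩ := ENat.ne_top_iff_exists.1 (Ideal.height_ne_top hq.ne_top : q.height ≠ ⊤)
  obtain ⟨P0, hP0, hP0'⟩ := exists_minimal_dim (R := B ⧸ q.map (algebraMap A B))
  have hmins : ∀ P ∈ minimalPrimes (B ⧸ q.map (algebraMap A B)),
      ringKrullDim ((B ⧸ q.map (algebraMap A B)) ⧸ P) + (q.height : WithBot ℕ∞) = ringKrullDim B := by
    intro P hP
    have hP' := comap_mem_minimalPrimes hP
    haveI := hP'.1.1
    rw [ringKrullDim_quotient_quotient, ← height_eq_of_mem_minimalPrimes hP']
    exact ringKrullDim_quotient_add_height_of_equidim heq hcat _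
  have hdim : ringKrullDim (B ⧸ q.map (algebraMap A B)) + (q.height : WithBot ℕ∞) = ringKrullDim B := by
    rw [← hP0']; exact hmins P0 hP0
  refine ⟨fun P hP => ?_, isCatenary_quotient _ hcat, inferInstance, hdim, ?_⟩
  · have := (hmins P hP).trans hdim.symm
    rw [← hh] at this
    exact add_nat_cancel (n := h) this
  · haveI : IsLocalRing (A ⧸ q) := IsLocalRing.of_surjective' _ Ideal.Quotient.mk_surjective
    haveI : Module.Flat (A ⧸ q) (B ⧸ q.map (algebraMap A B)) := flat_quotient q
    haveI : IsLocalHom (algebraMap (A ⧸ q) (B ⧸ q.map (algebraMap A B))) := by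
      refine ⟨fun x hx => ?_⟩
      obtain ⟨a, rfl⟩ := Ideal.Quotient.mk_surjective x
      haveI := IsLocalHom.of_surjective (Ideal.Quotient.mk (q.map (algebraMap A B))) Ideal.Quotient.mk_surjective
      exact (IsUnit.of_map (algebraMap A B) a (IsUnit.of_map (Ideal.Quotient.mk _) _ hx)).map _
    have h1 := ringKrullDim_eq_add_of_flat (A := A ⧸ q) (B := B ⧸ q.map (algebraMap A B))
    have hle : q.map (algebraMap A B) ≤ (maximalIdeal A).map (algebraMap A B) :=
      Ideal.map_mono (le_maximalIdeal hq.ne_top)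
    have h2 : (maximalIdeal (A ⧸ q)).map (algebraMap (A ⧸ q) (B ⧸ q.map (algebraMap A B))) =
        ((maximalIdeal A).map (algebraMap A B)).map (Ideal.Quotient.mk (q.map (algebraMap A B))) := by
      rw [← map_maximalIdeal_of_surjective _ Ideal.Quotient.mk_surjective, Ideal.map_map, Ideal.map_map]
      rfl
    rw [h2, ringKrullDim_quotient_quotient_map hle, ← hk] at h1
    rw [h1, hAB, ← hh] at hdim
    rw [← hh]
    haveI : Nontrivial (B ⧸ (maximalIdeal A).map (algebraMap A B)) := Ideal.Quotient.nontrivial_iff.2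
      (ne_top_of_le_ne_top (maximalIdeal.isMaximal B).ne_top (((local_hom_TFAE (algebraMap A B)).out 0 2).1 ‹_›))
    haveI : IsLocalRing (B ⧸ (maximalIdeal A).map (algebraMap A B)) := IsLocalRing.of_surjective' _ Ideal.Quotient.mk_surjective
    obtain ⟨k', hk'⟩ := exists_ringKrullDim_eq (R := B ⧸ (maximalIdeal A).map (algebraMap A B))
    rw [hk] at hdim
    rw [hk'] at hdim
    refine add_nat_cancel (n := k') (Eq.trans ?_ hdim)
    rw [add_assoc, add_assoc, add_comm (((h : ℕ∞) : WithBot ℕ∞))]
    rfl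

/-- Equidimensionality and catenarity descend along flat local maps. -/
theorem equidim_catenary_descent (heq : IsEquidim B) (hcat : CAlg.IsCatenary B) :
    IsEquidim A ∧ CAlg.IsCatenary A := by
  have key := quotient_map_props (A := A) (B := B) heq hcat
  refine ⟨fun p hp => ?_, isCatenary_of_height fun q r hqr => ?_⟩
  · haveI := hp.1.1
    have := (key p hp.1.1).2.2.2.2
    rwa [Ideal.height_eq_zero_iff.2 hp, WithBot.coe_zero, add_zero] at this
  · obtain ⟨heq', hcat', hnt, hdimq, -⟩ := key q.asIdeal q.2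
    haveI := hnt
    haveI : IsLocalRing (B ⧸ q.asIdeal.map (algebraMap A B)) := IsLocalRing.of_surjective' _ Ideal.Quotient.mk_surjective
    have hne : r.asIdeal.map (algebraMap A B) ≤ maximalIdeal B :=
      (Ideal.map_mono (le_maximalIdeal r.2.ne_top)).trans (((local_hom_TFAE (algebraMap A B)).out 0 2).1 ‹_›)
    obtain ⟨P, hP, -⟩ := Ideal.exists_minimalPrimes_le hne
    haveI := hP.1.1
    have hqP : q.asIdeal.map (algebraMap A B) ≤ P := (Ideal.map_mono hqr.le).trans hP.1.2
    have h1 := ringKrullDim_quotient_add_height_of_equidim heq hcat P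
    rw [height_eq_of_mem_minimalPrimes hP] at h1
    let P' := P.map (Ideal.Quotient.mk (q.asIdeal.map (algebraMap A B)))
    haveI : P'.IsPrime := Ideal.map_isPrime_of_surjective Ideal.Quotient.mk_surjective (by rw [Ideal.mk_ker]; exact hqP)
    let r' := r.asIdeal.map (Ideal.Quotient.mk q.asIdeal)
    haveI : r'.IsPrime := Ideal.map_isPrime_of_surjective Ideal.Quotient.mk_surjective (by rw [Ideal.mk_ker]; exact hqr.le)
    haveI : Module.Flat (A ⧸ q.asIdeal) (B ⧸ q.asIdeal.map (algebraMap A B)) := flat_quotient _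
    have hr'P' : P' ∈ (r'.map (algebraMap (A ⧸ q.asIdeal) (B ⧸ q.asIdeal.map (algebraMap A B)))).minimalPrimes := by
      have : r'.map (algebraMap (A ⧸ q.asIdeal) (B ⧸ q.asIdeal.map (algebraMap A B))) =
          (r.asIdeal.map (algebraMap A B)).map (Ideal.Quotient.mk _) := by
        rw [Ideal.map_map, Ideal.map_map]; rfl
      rw [this, Ideal.minimalPrimes_map_of_surjective Ideal.Quotient.mk_surjective, Ideal.mk_ker,
        sup_eq_left.2 (Ideal.map_mono hqr.le)]
      exact ⟨P, hP, rfl⟩
    have hht : P'.height = 1 := by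
      rw [height_eq_of_mem_minimalPrimes hr'P']
      exact height_map_eq_one_of_covBy hqr
    have h2 := ringKrullDim_quotient_add_height_of_equidim heq' hcat' P'
    rw [ringKrullDim_quotient_quotient_map hqP, hht] at h2
    haveI : Nontrivial (B ⧸ P) := Ideal.Quotient.nontrivial_iff.2 hP.1.1.ne_top
    haveI : IsLocalRing (B ⧸ P) := IsLocalRing.of_surjective' _ Ideal.Quotient.mk_surjective
    obtain ⟨e, he⟩ := exists_ringKrullDim_eq (R := B ⧸ P)
    obtain ⟨a, ha⟩ := ENat.ne_top_iff_exists.1 (Ideal.height_ne_top q.2.ne_top : q.asIdeal.height ≠ ⊤)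
    obtain ⟨b, hb⟩ := ENat.ne_top_iff_exists.1 (Ideal.height_ne_top r.2.ne_top : r.asIdeal.height ≠ ⊤)
    rw [← h2, ← h1, he, ← ha, ← hb] at hdimq
    rw [← ha, ← hb]
    have : e + 1 + a = e + b := by exact_mod_cast hdimq
    exact_mod_cast (by omega : b = a + 1)

end Flat

end CatLib
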