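import Groth.Agent.CatLib.Flat
import Groth.Agent.NormalLib.CompletionTensor
import Mathlib.RingTheory.AdicCompletion.LocalRing
import Mathlib.RingTheory.AdicCompletion.AsTensorProduct

/-! Completions, equidimensionality, formal equidimensionality. -/

set_option autoImplicit false
set_option linter.style.haveILetI false
set_option maxHeartbeats 800000
universe u

open IsLocalRing EGA4 CommAlgDim
open scoped TensorProduct

namespace CatLib

theorem exists_cm_surjective (R : Type u) [CommRing R] [IsLocalRing R] [IsNoetherianRing R]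
    [IsAdicComplete (maximalIdeal R) R] :
    ∃ (C : Type u) (_ : CommRing C) (_ : IsLocalRing C) (_ : IsNoetherianRing C) (f : C →+* R),
      IsCM C ∧ Function.Surjective f := by
  obtain ⟨Λ, _, _, n, f, hΛ, _, hf⟩ := CohenLib.exists_surjective_psHom R (IsNoetherian.noetherian _)
  haveI : IsRegularLocalRing Λ := by
    rcases hΛ with ⟨hF, -⟩ | ⟨⟨_, _, -⟩, -⟩
    · letI := hF.toField
      infer_instance
    · infer_instance
  haveI : IsRegularRing Λ := isRegularRing_of_isRegularLocalRing Λ
  haveI := isRegularRing_mvPowerSeries Λ n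
  haveI : IsNoetherianRing (MvPowerSeries (Fin n) Λ) := CohenLib.isNoetherianRing_mvPowerSeries (Λ := Λ) (n := n)
  haveI : IsRegularLocalRing (MvPowerSeries (Fin n) Λ) := IsRegularLocalRing.of_isRegularRing_of_isLocalRing _
  exact ⟨_, inferInstance, inferInstance, inferInstance, f, isCM_of_isRegularLocalRing _, hf⟩

theorem isEquidim_of_ringEquiv {R S : Type u} [CommRing R] [CommRing S] (e : R ≃+* S) (h : IsEquidim R) :
    IsEquidim S := by
  intro P hP
  have hP' : P.comap e.toRingHom ∈ minimalPrimes R := by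
    have := Ideal.comap_minimalPrimes_eq_of_surjective (f := e.toRingHom) e.surjective ⊥
    rw [← RingHom.ker_eq_comap_bot, (RingHom.injective_iff_ker_eq_bot e.toRingHom).1 e.injective] at this
    show _ ∈ (⊥ : Ideal R).minimalPrimes
    rw [this]
    exact ⟨P, hP, rfl⟩
  have hmap : (P.comap e.toRingHom).map (e : R →+* S) = P :=
    Ideal.map_comap_of_surjective _ e.surjective P
  rw [← ringKrullDim_eq_of_ringEquiv e, ← h _ hP',
    ringKrullDim_eq_of_ringEquiv (Ideal.quotientEquiv _ P e hmap.symm)]

theorem isEquidim_congr {R S : Type u} [CommRing R] [CommRing S] (e : R ≃+* S) :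
    IsEquidim R ↔ IsEquidim S :=
  ⟨isEquidim_of_ringEquiv e, isEquidim_of_ringEquiv e.symm⟩

/-- Quotients of catenary equidimensional rings by ideals all of whose minimal primes have the same height. -/
theorem isEquidim_quotient_of_height {C : Type u} [CommRing C] [IsLocalRing C] [IsNoetherianRing C]
    (heq : IsEquidim C) (hcat : CAlg.IsCatenary C) (J : Ideal C) [Nontrivial (C ⧸ J)] {h : ℕ}
    (hJ : ∀ P ∈ J.minimalPrimes, P.height = (h : ℕ∞)) :
    IsEquidim (C ⧸ J) ∧ ringKrullDim (C ⧸ J) + ((h : ℕ∞) : WithBot ℕ∞) = ringKrullDim C := by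
  haveI : IsLocalRing (C ⧸ J) := IsLocalRing.of_surjective' _ Ideal.Quotient.mk_surjective
  have key : ∀ P ∈ minimalPrimes (C ⧸ J),
      ringKrullDim ((C ⧸ J) ⧸ P) + ((h : ℕ∞) : WithBot ℕ∞) = ringKrullDim C := by
    intro P hP
    have hP' := comap_mem_minimalPrimes hP
    haveI := hP'.1.1
    rw [ringKrullDim_quotient_quotient, ← hJ _ hP']
    exact ringKrullDim_quotient_add_height_of_equidim heq hcat _
  obtain ⟨P0, hP0, hP0'⟩ := exists_minimal_dim (R := C ⧸ J)
  have hdim := key P0 hP0
  rw [hP0'] at hdim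
  exact ⟨fun P hP => add_nat_cancel ((key P hP).trans hdim.symm), hdim⟩

theorem isEquidim_of_isCM {R : Type u} [CommRing R] [IsLocalRing R] [IsNoetherianRing R] (hR : IsCM R) :
    IsEquidim R := fun P hP => by
  haveI := hP.1.1
  have := ringKrullDim_quotient_add_height hR P
  rwa [Ideal.height_eq_zero_iff.2 hP, WithBot.coe_zero, add_zero] at this

theorem isCatenary_of_isCM {R : Type u} [CommRing R] [IsLocalRing R] [IsNoetherianRing R] (hR : IsCM R) :
    CAlg.IsCatenary R := isCatenary_of_isCMRing (isCMRing_of_isCM hR)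

theorem isEquidim_of_isDomain (R : Type u) [CommRing R] [IsDomain R] : IsEquidim R := by
  intro P hP
  rw [IsDomain.minimalPrimes_eq_singleton_bot] at hP
  subst hP
  exact ringKrullDim_eq_of_ringEquiv (RingEquiv.quotientBot R)

section Completion

variable (A : Type u) [CommRing A] [IsLocalRing A] [IsNoetherianRing A]

theorem isNoetherianRing_cpl : IsNoetherianRing (AdicCompletion (maximalIdeal A) A) :=
  AdicRingLib.isNoetherianRing_adicCompletion _

theorem ringKrullDim_cpl : ringKrullDim (AdicCompletion (maximalIdeal A) A) = ringKrullDim A := by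
  haveI := isNoetherianRing_cpl A
  rw [ringKrullDim_eq_add_of_flat (A := A), ← AdicCompletion.maximalIdeal_eq_map]
  letI := Ideal.Quotient.field (maximalIdeal (AdicCompletion (maximalIdeal A) A))
  rw [ringKrullDim_eq_zero_of_field, add_zero]

theorem isCatenary_cpl : CAlg.IsCatenary (AdicCompletion (maximalIdeal A) A) := by
  haveI := isNoetherianRing_cpl A
  obtain ⟨C, _, _, _, f, hC, hf⟩ := exists_cm_surjective (AdicCompletion (maximalIdeal A) A)
  exact isCatenary_of_surjective f hf (isCatenary_of_isCM hC)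

variable {A}

theorem isCM_cpl (hA : IsCM A) :
    haveI := isNoetherianRing_cpl A
    IsCM (AdicCompletion (maximalIdeal A) A) := by
  haveI := isNoetherianRing_cpl A
  obtain ⟨rs, hrs, hd⟩ := hA
  refine isCM_of_hasSeqIn (n := rs.length) ⟨_, List.length_map _, ?_, hrs.toIsWeaklyRegular.of_flat⟩
    (by rw [ringKrullDim_cpl, hd])
  intro r hr
  obtain ⟨a, ha, rfl⟩ := List.mem_map.1 hr
  rw [AdicCompletion.maximalIdeal_eq_map]
  exact Ideal.mem_map_of_mem (algebraMap A (AdicCompletion (maximalIdeal A) A)) (mem_maximalIdeal_of_isRegular hrs a ha)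

/-- The completion of a quotient. -/
theorem exists_cpl_quotient_equiv (B : Type u) [CommRing B] [IsLocalRing B] [Algebra A B]
    (hs : Function.Surjective (algebraMap A B)) :
    Nonempty (AdicCompletion (maximalIdeal B) B ≃+* (AdicCompletion (maximalIdeal A) A ⧸
      (RingHom.ker (algebraMap A B)).map (algebraMap A (AdicCompletion (maximalIdeal A) A)))) := by
  haveI : Module.Finite A B := Module.Finite.of_surjective (Algebra.linearMap A B) hs
  obtain ⟨e, -⟩ := NormalLib.exists_ringEquiv_completion_tensor (maximalIdeal A) B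
  rw [map_maximalIdeal_of_surjective _ hs] at e
  have e2 : (A ⧸ RingHom.ker (algebraMap A B)) ≃ₐ[A] B :=
    Ideal.quotientKerAlgEquivOfSurjective (f := Algebra.ofId A B) hs
  exact ⟨e.trans ((Algebra.TensorProduct.congr (AlgEquiv.refl (R := A) (A₁ := AdicCompletion (maximalIdeal A) A)) e2.symm).toRingEquiv.trans
    (Algebra.TensorProduct.quotIdealMapEquivTensorQuot (AdicCompletion (maximalIdeal A) A)
      (RingHom.ker (algebraMap A B))).symm.toRingEquiv)⟩

theorem isFormallyEquidim_iff_quotient (B : Type u) [CommRing B] [IsLocalRing B] [Algebra A B]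
    (hs : Function.Surjective (algebraMap A B)) :
    IsFormallyEquidim B ↔ IsEquidim (AdicCompletion (maximalIdeal A) A ⧸
      (RingHom.ker (algebraMap A B)).map (algebraMap A (AdicCompletion (maximalIdeal A) A))) := by
  obtain ⟨e⟩ := exists_cpl_quotient_equiv (A := A) B hs
  exact isEquidim_congr e

theorem under_mem_minimalPrimes {A B : Type u} [CommRing A] [CommRing B] [Algebra A B] [Module.Flat A B]
    {a : Ideal A} {P : Ideal B} (hP : P ∈ (a.map (algebraMap A B)).minimalPrimes) :
    P.comap (algebraMap A B) ∈ a.minimalPrimes ∧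
      P ∈ ((P.comap (algebraMap A B)).map (algebraMap A B)).minimalPrimes := by
  haveI := hP.1.1
  refine ⟨⟨⟨inferInstance, Ideal.map_le_iff_le_comap.1 hP.1.2⟩, fun p hp hle => ?_⟩,
    ⟨⟨inferInstance, Ideal.map_comap_le⟩, fun P' hP' hle => hP.2 ⟨hP'.1, ?_⟩ hle⟩⟩
  · haveI := hp.1
    haveI : P.LiesOver (P.comap (algebraMap A B)) := ⟨rfl⟩
    obtain ⟨P', hP'P, hP', hover⟩ :=
      Ideal.exists_ideal_le_liesOver_of_le (p := p) (q := P.comap (algebraMap A B)) P hle
    have hmap : a.map (algebraMap A B) ≤ P' :=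
      (Ideal.map_mono hp.2).trans (Ideal.map_le_iff_le_comap.2 (le_of_eq hover.over))
    have : P ≤ P' := hP.2 ⟨hP', hmap⟩ hP'P
    exact (Ideal.comap_mono this).trans (le_of_eq hover.over.symm)
  · exact (Ideal.map_mono (Ideal.map_le_iff_le_comap.1 hP.1.2)).trans hP'.2

theorem equidim_catenary_of_isFormallyEquidim (h : IsFormallyEquidim A) :
    IsEquidim A ∧ CAlg.IsCatenary A := by
  haveI := isNoetherianRing_cpl A
  exact equidim_catenary_descent (B := AdicCompletion (maximalIdeal A) A) h (isCatenary_cpl A)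

/-- In a formally equidimensional ring, equidimensional quotients are formally equidimensional. -/
theorem isEquidim_quotient_iff (h : IsFormallyEquidim A) (a : Ideal A) [Nontrivial (A ⧸ a)] :
    IsEquidim (A ⧸ a) ↔ IsFormallyEquidim (A ⧸ a) := by
  haveI := isNoetherianRing_cpl A
  haveI : IsLocalRing (A ⧸ a) := IsLocalRing.of_surjective' _ Ideal.Quotient.mk_surjective
  refine ⟨fun ha => ?_, fun ha => (equidim_catenary_of_isFormallyEquidim ha).1⟩
  obtain ⟨hAeq, hAcat⟩ := equidim_catenary_of_isFormallyEquidim h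
  rw [isFormallyEquidim_iff_quotient (A := A) (A ⧸ a) Ideal.Quotient.mk_surjective,
    Ideal.Quotient.algebraMap_eq, Ideal.mk_ker]
  set Â := AdicCompletion (maximalIdeal A) A
  have hne : a.map (algebraMap A Â) ≠ ⊤ := by
    refine ne_top_of_le_ne_top (maximalIdeal.isMaximal Â).ne_top ?_
    rw [AdicCompletion.maximalIdeal_eq_map]
    exact Ideal.map_mono (le_maximalIdeal (Ideal.Quotient.nontrivial_iff.1 ‹_›))
  haveI := Ideal.Quotient.nontrivial_iff.2 hne
  obtain ⟨p0, hp0, -⟩ := exists_minimal_dim (R := A ⧸ a)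
  have hp0' := comap_mem_minimalPrimes hp0
  haveI := hp0'.1.1
  obtain ⟨e, he⟩ := ENat.ne_top_iff_exists.1 (Ideal.height_ne_top hp0'.1.1.ne_top :
    (p0.comap (Ideal.Quotient.mk a)).height ≠ ⊤)
  have hmins : ∀ p ∈ a.minimalPrimes, p.height = (e : ℕ∞) := by
    intro p hp
    haveI := hp.1.1
    have h1 := ha _ (map_mem_minimalPrimes hp)
    rw [ringKrullDim_quotient_quotient_map hp.1.2] at h1
    have h2 := ha _ hp0
    rw [ringKrullDim_quotient_quotient] at h2
    have h3 := ringKrullDim_quotient_add_height_of_equidim hAeq hAcat p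
    have h4 := ringKrullDim_quotient_add_height_of_equidim hAeq hAcat (p0.comap (Ideal.Quotient.mk a))
    rw [h1, ← h4, h2, ← he] at h3
    obtain ⟨n, hn⟩ := exists_ringKrullDim_eq (R := A ⧸ a)
    obtain ⟨f, hf⟩ := ENat.ne_top_iff_exists.1 (Ideal.height_ne_top hp.1.1.ne_top : p.height ≠ ⊤)
    rw [hn, ← hf] at h3
    rw [← hf]
    have : n + f = n + e := by exact_mod_cast h3
    exact_mod_cast (by omega : f = e)
  refine (isEquidim_quotient_of_height h (isCatenary_cpl A) _ (h := e) fun P hP => ?_).1
  obtain ⟨hp, hP'⟩ := under_mem_minimalPrimes hP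
  haveI := hp.1.1
  rw [height_eq_of_mem_minimalPrimes hP', hmins _ hp]

theorem isFormallyEquidim_of_isCM (hA : IsCM A) : IsFormallyEquidim A := by
  haveI := isNoetherianRing_cpl A
  exact isEquidim_of_isCM (isCM_cpl hA)

/-- An equidimensional quotient of a Cohen–Macaulay local ring is formally equidimensional. -/
theorem isFormallyEquidim_of_surjective_cm (hA : IsCM A) {B : Type u} [CommRing B] [IsLocalRing B]
    [Algebra A B] (hs : Function.Surjective (algebraMap A B)) (hB : IsEquidim B) : IsFormallyEquidim B := by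
  have e := RingHom.quotientKerEquivOfSurjective hs
  haveI : Nontrivial (A ⧸ RingHom.ker (algebraMap A B)) := e.toEquiv.nontrivial
  haveI : IsLocalRing (A ⧸ RingHom.ker (algebraMap A B)) := IsLocalRing.of_surjective' _ Ideal.Quotient.mk_surjective
  have h1 := (isEquidim_quotient_iff (isFormallyEquidim_of_isCM hA) (RingHom.ker (algebraMap A B))).1
    ((isEquidim_congr e).2 hB)
  rw [isFormallyEquidim_iff_quotient (A := A) B hs]
  rwa [isFormallyEquidim_iff_quotient (A := A) (A ⧸ RingHom.ker (algebraMap A B)) Ideal.Quotient.mk_surjective,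
    Ideal.Quotient.algebraMap_eq, Ideal.mk_ker] at h1

theorem isFormallyCatenary_of_surjective_cm (hA : IsCM A) {B : Type u} [CommRing B] [IsLocalRing B]
    [Algebra A B] (hs : Function.Surjective (algebraMap A B)) : IsFormallyCatenary B := by
  intro p _
  haveI : IsLocalRing (B ⧸ p) := IsLocalRing.of_surjective' _ Ideal.Quotient.mk_surjective
  haveI : IsDomain (B ⧸ p) := Ideal.Quotient.isDomain p
  exact isFormallyEquidim_of_surjective_cm hA (B := B ⧸ p) (Ideal.Quotient.mk_surjective.comp hs)
    (isEquidim_of_isDomain _)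

end Completion

end CatLib
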