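import Groth.Agent.CatLib.Basic
import Groth.Agent.CommAlgDim.CM
import Groth.Agent.CommAlgDim.Depth
import Groth.Agent.CommAlgDim.RegularRing
import Groth.Agent.CohenLib.Structure
import Groth.Agent.SMTLib.CMQuot
import Groth.Agent.J2Lib.Criterion
import Mathlib.RingTheory.KrullDimension.Polynomial
import Mathlib.RingTheory.Polynomial.Quotient

/-! Cohen–Macaulay rings: dimension formula, localization, polynomials, completion, catenarity. -/

set_option autoImplicit false
set_option linter.style.haveILetI false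
set_option maxHeartbeats 800000
universe u

open IsLocalRing RingTheory.Sequence CommAlgDim Polynomial Pointwise

namespace CatLib

theorem height_add_one_le_comap {R : Type u} [CommRing R] {y : R} (hy : IsSMulRegular R y)
    (Q : PrimeSpectrum (R ⧸ Ideal.span {y})) :
    Order.height Q + 1 ≤ Order.height (quotEmb (Ideal.span {y}) Q) := by
  set f := quotEmb (Ideal.span {y})
  have h : ∀ s : LTSeries (PrimeSpectrum (R ⧸ Ideal.span {y})), s.last = Q →
      ((s.length + 1 : ℕ) : ℕ∞) ≤ Order.height (f Q) := by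
    intro s hs
    let t := s.map f f.strictMono
    have hyt : y ∈ t.head.asIdeal := by
      rw [LTSeries.head_map]
      have : f s.head ∈ Set.range f := ⟨_, rfl⟩
      rw [range_quotEmb] at this
      exact this (Ideal.mem_span_singleton_self y)
    obtain ⟨P, hP, hPt⟩ := Ideal.exists_minimalPrimes_le (I := (⊥ : Ideal R)) (J := t.head.asIdeal) bot_le
    have hyP : y ∉ P := fun hyP => Set.disjoint_left.1
      (Ideal.disjoint_nonZeroDivisors_of_mem_minimalPrimes hP) hyP
      (mem_nonZeroDivisors_iff_right.2 fun x hx => hy (show y • x = y • (0 : R) by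
        rw [smul_zero, smul_eq_mul, mul_comm]; exact hx))
    haveI := hP.1.1
    have hlt : (⟨P, inferInstance⟩ : PrimeSpectrum R) < t.head :=
      lt_of_le_of_ne hPt fun h => hyP (by rw [← h] at hyt; exact hyt)
    let t' := t.cons ⟨P, inferInstance⟩ hlt
    have := Order.length_le_height_last (p := t')
    rw [RelSeries.last_cons, LTSeries.last_map, hs] at this
    refine le_trans (le_of_eq ?_) this
    norm_cast
    simp [t', t, RelSeries.cons, RelSeries.append, Nat.add_comm]
  rcases eq_or_ne (Order.height Q) ⊤ with hQ | hQ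
  · refine le_of_le_of_eq le_top (ENat.eq_top_iff_forall_ge.2 fun n => ?_).symm
    obtain ⟨s, hs, hn⟩ := Order.exists_series_of_le_height Q (n := n) (hQ ▸ le_top)
    exact le_trans (by rw [hn]; exact_mod_cast Nat.le_succ n) (h s hs)
  · obtain ⟨n, hn⟩ := ENat.ne_top_iff_exists.1 hQ
    obtain ⟨s, hs, hsn⟩ := Order.exists_series_of_height_eq_coe Q hn.symm
    rw [← hn, ← hsn]
    exact_mod_cast h s hs

variable {R : Type u} [CommRing R]

theorem isCM_of_hasSeqIn [IsLocalRing R] [IsNoetherianRing R] {n : ℕ}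
    (h : HasSeqIn (maximalIdeal R) R n) (hd : ringKrullDim R ≤ (n : ℕ)) : IsCM R := by
  obtain ⟨rs, hl, hm, hr⟩ := h
  have hreg := IsRegular.of_isWeaklyRegular_of_mem_maximalIdeal R hm hr
  refine ⟨rs, hreg, le_antisymm (hl ▸ hd) ?_⟩
  rw [← ringKrullDim_add_length_eq_ringKrullDim_of_isRegular rs hreg]
  haveI : Nontrivial (R ⧸ Ideal.ofList rs) := Ideal.Quotient.nontrivial_iff.2
    (ne_top_of_le_ne_top (maximalIdeal.isMaximal R).ne_top (ofList_le_iff.2 hm))
  exact le_add_of_nonneg_left ringKrullDim_nonneg_of_nontrivial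

theorem ringKrullDim_quotient_of_mem_associatedPrimes [IsLocalRing R] [IsNoetherianRing R] (hR : IsCM R)
    {P : Ideal R} (hP : P ∈ associatedPrimes R R) : ringKrullDim (R ⧸ P) = ringKrullDim R := by
  refine le_antisymm (ringKrullDim_quotient_le P) ?_
  obtain ⟨rs, hrs, hd⟩ := hR
  rw [hd]
  exact length_le_ringKrullDim_of_mem_associatedPrimes rs R hrs P hP

theorem cm_prime_aux : ∀ (n : ℕ) (R : Type u) [CommRing R] [IsLocalRing R] [IsNoetherianRing R],
    IsCM R → ringKrullDim R = (n : ℕ) → ∀ (P : Ideal R) [P.IsPrime], ∃ h : ℕ, P.height = (h : ℕ∞) ∧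
      ringKrullDim (R ⧸ P) + (h : ℕ) = (n : ℕ) ∧ HasSeqIn P R h
  | n, R, _, _, _, hR, hn, P, hPp => by
    haveI := Ideal.Quotient.nontrivial_iff.2 hPp.ne_top
    obtain ⟨e, he⟩ := exists_ringKrullDim_eq (R := R)
    obtain ⟨h0, hh0⟩ := ENat.ne_top_iff_exists.1 (Ideal.height_ne_top hPp.ne_top : P.height ≠ ⊤)
    haveI : IsLocalRing (R ⧸ P) := IsLocalRing.of_surjective' _ Ideal.Quotient.mk_surjective
    obtain ⟨d, hd⟩ := exists_ringKrullDim_eq (R := R ⧸ P)
    have hle := J2Lib.ringKrullDim_quotient_add_height_le P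
    rw [hn, hd, ← hh0] at hle
    replace hle : d + h0 ≤ n := by exact_mod_cast hle
    refine ⟨h0, hh0.symm, ?_⟩
    rw [hd]
    by_cases hass : ∃ y ∈ P, IsSMulRegular R y
    · obtain ⟨y, hyP, hy⟩ := hass
      have hym : y ∈ maximalIdeal R := le_maximalIdeal hPp.ne_top hyP
      haveI := nontrivial_quotient (singleton_ne_top hym)
      haveI : IsLocalRing (R ⧸ Ideal.span {y}) := IsLocalRing.of_surjective' _ Ideal.Quotient.mk_surjective
      have hsucc := ringKrullDim_quotient_span_singleton_succ_eq_ringKrullDim hy hym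
      obtain ⟨n', hn'⟩ := exists_ringKrullDim_eq (R := R ⧸ Ideal.span {y})
      rw [hn', hn] at hsucc
      replace hsucc : n' + 1 = n := by exact_mod_cast hsucc
      have hyle : Ideal.span {y} ≤ P := (Ideal.span_singleton_le_iff_mem _).2 hyP
      let P' := P.map (Ideal.Quotient.mk (Ideal.span {y}))
      haveI : P'.IsPrime := Ideal.map_isPrime_of_surjective Ideal.Quotient.mk_surjective
        (by rw [Ideal.mk_ker]; exact hyle)
      obtain ⟨h', hh', hdim', rs, hl, hm, hr⟩ :=
        cm_prime_aux n' (R ⧸ Ideal.span {y}) (hR.quotient_singleton hy hym) hn' P'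
      rw [ringKrullDim_eq_of_ringEquiv (DoubleQuot.quotQuotEquivQuotOfLE hyle), hd] at hdim'
      replace hdim' : d + h' = n' := by exact_mod_cast hdim'
      have hge : h' + 1 ≤ h0 := by
        have := height_add_one_le_comap hy ⟨P', inferInstance⟩
        rw [← PrimeSpectrum.height_eq_orderHeight, ← PrimeSpectrum.height_eq_orderHeight] at this
        change P'.height + 1 ≤ (P'.comap (Ideal.Quotient.mk _)).height at this
        rw [Ideal.comap_map_of_surjective _ Ideal.Quotient.mk_surjective, ← RingHom.ker_eq_comap_bot,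
          Ideal.mk_ker, sup_eq_left.2 hyle, hh', ← hh0] at this
        exact_mod_cast this
      refine ⟨by norm_cast; omega, ?_⟩
      obtain ⟨rs0, hrs0⟩ : ∃ rs0 : List R, rs0.map (Ideal.Quotient.mk (Ideal.span {y})) = rs :=
        List.map_surjective_iff.2 Ideal.Quotient.mk_surjective rs
      have hlen : (y :: rs0).length = h0 := by
        rw [List.length_cons, ← List.length_map (Ideal.Quotient.mk (Ideal.span {y})), hrs0, hl]; omega
      refine ⟨y :: rs0, hlen, ?_, (isWeaklyRegular_cons_iff' R y rs0).2 ⟨hy, ?_⟩⟩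
      · simp only [List.mem_cons, forall_eq_or_imp]
        refine ⟨hyP, fun r hr' => ?_⟩
        have := hm _ (hrs0 ▸ List.mem_map_of_mem hr')
        rw [← Ideal.mem_comap, Ideal.comap_map_of_surjective _ Ideal.Quotient.mk_surjective,
          ← RingHom.ker_eq_comap_bot, Ideal.mk_ker, sup_eq_left.2 hyle] at this
        exact this
      · rw [hrs0]
        have hy' : Ideal.span {y} = y • (⊤ : Submodule R R) := by
          rw [← Submodule.ideal_span_singleton_smul, Ideal.smul_eq_mul, Ideal.mul_top]
        refine (AddEquiv.isWeaklyRegular_congr (e := (Submodule.quotEquivOfEq _ _ hy').toAddEquiv)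
          (as := rs) (bs := rs) ?_).1 hr
        refine List.forall₂_same.2 fun r _ x => ?_
        obtain ⟨a, rfl⟩ := Ideal.Quotient.mk_surjective r
        exact (Submodule.quotEquivOfEq _ _ hy').map_smul a x
    · push Not at hass
      obtain ⟨Q, hQ, hPQ⟩ : ∃ Q ∈ associatedPrimes R R, P ≤ Q := by
        by_contra hcon
        push Not at hcon
        obtain ⟨x, hxP, hx⟩ := exists_isSMulRegular_mem hcon
        exact hass x hxP hx
      have h1 : (n : WithBot ℕ∞) ≤ ringKrullDim (R ⧸ P) := by
        rw [← hn, ← ringKrullDim_quotient_of_mem_associatedPrimes hR hQ]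
        exact ringKrullDim_le_of_surjective (Ideal.Quotient.factor hPQ) (Ideal.Quotient.factor_surjective hPQ)
      rw [hd] at h1
      replace h1 : n ≤ d := by exact_mod_cast h1
      refine ⟨by norm_cast; omega, ?_⟩
      rw [show h0 = 0 by omega]
      exact hasSeqIn_zero _

section Local
variable [IsLocalRing R] [IsNoetherianRing R]

theorem hasSeqIn_prime (hR : IsCM R) (P : Ideal R) [P.IsPrime] {h : ℕ} (hh : P.height = (h : ℕ∞)) :
    HasSeqIn P R h := by
  obtain ⟨n, hn⟩ := exists_ringKrullDim_eq (R := R)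
  obtain ⟨h', hh', -, hs⟩ := cm_prime_aux n R hR hn P
  rw [hh] at hh'
  rwa [show h = h' from by exact_mod_cast hh']

theorem ringKrullDim_quotient_add_height (hR : IsCM R) (P : Ideal R) [P.IsPrime] :
    ringKrullDim (R ⧸ P) + (P.height : WithBot ℕ∞) = ringKrullDim R := by
  obtain ⟨n, hn⟩ := exists_ringKrullDim_eq (R := R)
  obtain ⟨h', hh', he, -⟩ := cm_prime_aux n R hR hn P
  rw [hh', hn, ← he]
  rfl

theorem isCM_localization (hR : IsCM R) (P : Ideal R) [P.IsPrime] : IsCM (Localization.AtPrime P) := by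
  haveI : IsNoetherianRing (Localization.AtPrime P) := IsLocalization.isNoetherianRing P.primeCompl _ inferInstance
  obtain ⟨h, hh⟩ := ENat.ne_top_iff_exists.1 (Ideal.height_ne_top (Ideal.IsPrime.ne_top ‹_›) : P.height ≠ ⊤)
  obtain ⟨rs, hl, hm, hr⟩ := (hasSeqIn_prime hR P hh.symm).localization (p := P) le_rfl
  refine isCM_of_hasSeqIn ⟨rs, hl, hm, ?_⟩ ?_
  · exact (LinearEquiv.extendScalarsOfIsLocalization P.primeCompl (Localization.AtPrime P)
      (IsLocalizedModule.linearEquiv P.primeCompl (LocalizedModule.mkLinearMap P.primeCompl R)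
        (Algebra.linearMap R (Localization.AtPrime P)))).isWeaklyRegular_congr rs |>.1 hr
  · rw [IsLocalization.AtPrime.ringKrullDim_eq_height P, ← hh]; rfl

end Local

theorem isCM_of_ringEquiv {A B : Type u} [CommRing A] [IsLocalRing A] [IsNoetherianRing A] [CommRing B]
    [IsLocalRing B] [IsNoetherianRing B] (e : A ≃+* B) (h : IsCM A) : IsCM B := by
  haveI := SMTLib.isCohenMacaulayLocalRing_of_isCM A h
  haveI := SMTLib.isCohenMacaulayLocalRing_of_ringEquiv e
  exact SMTLib.isCM_of_isCohenMacaulayLocalRing B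

/-- All localizations are Cohen–Macaulay. -/
def IsCMRing (R : Type u) [CommRing R] [IsNoetherianRing R] : Prop :=
  ∀ (P : Ideal R) [P.IsPrime], IsCM (Localization.AtPrime P)

theorem isCMRing_iff [IsNoetherianRing R] : IsCMRing R ↔ LocCoh.IsCohenMacaulayRing R := by
  refine ⟨fun h => ⟨fun P _ => ?_⟩, fun h P _ => ?_⟩
  · exact SMTLib.isCohenMacaulayLocalRing_of_isCM _ (h P)
  · haveI := LocCoh.IsCohenMacaulayRing.isCohenMacaulayLocalRing_localization (R := R) P
    exact SMTLib.isCM_of_isCohenMacaulayLocalRing _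

theorem isCMRing_of_isCM [IsLocalRing R] [IsNoetherianRing R] (hR : IsCM R) : IsCMRing R :=
  fun P _ => isCM_localization hR P

theorem isCMRing_of_isRegularRing [IsRegularRing R] : IsCMRing R := fun P _ => by
  haveI := isRegularRing_iff.1 (inferInstance : IsRegularRing R) P
  exact isCM_of_isRegularLocalRing _

/-- A Cohen–Macaulay ring is catenary. -/
theorem isCatenary_of_isCMRing [IsNoetherianRing R] (hR : IsCMRing R) : CAlg.IsCatenary R := by
  refine isCatenary_of_height fun q r hqr => ?_
  let T := Localization.AtPrime r.asIdeal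
  haveI : IsNoetherianRing T := IsLocalization.isNoetherianRing r.asIdeal.primeCompl _ inferInstance
  let Q := q.asIdeal.map (algebraMap R T)
  have hdisj : Disjoint (r.asIdeal.primeCompl : Set R) q.asIdeal :=
    Set.disjoint_left.2 fun x hx hxq => hx (hqr.le hxq)
  haveI : Q.IsPrime := IsLocalization.isPrime_of_isPrime_disjoint r.asIdeal.primeCompl _ _ q.2 hdisj
  have hQ : Q.comap (algebraMap R T) = q.asIdeal :=
    IsLocalization.comap_map_of_isPrime_disjoint r.asIdeal.primeCompl _ q.2 hdisj
  haveI : IsDomain (T ⧸ Q) := Ideal.Quotient.isDomain Q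
  have hdim : ringKrullDim (T ⧸ Q) = 1 := by
    let g : PrimeSpectrum (T ⧸ Q) → PrimeSpectrum R := fun x => locEmb r.asIdeal.primeCompl T (quotEmb Q x)
    have hmono : StrictMono g := (locEmb r.asIdeal.primeCompl T).strictMono.comp (quotEmb Q).strictMono
    have hrange : ∀ x, q ≤ g x ∧ g x ≤ r := fun x => by
      constructor
      · intro z hz
        have h1 : quotEmb Q x ∈ Set.range (quotEmb Q) := ⟨_, rfl⟩
        rw [range_quotEmb] at h1
        exact h1 (Ideal.mem_map_of_mem _ hz)
      · intro z hz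
        have h1 : g x ∈ Set.range (locEmb r.asIdeal.primeCompl T) := ⟨_, rfl⟩
        rw [range_locEmb] at h1
        by_contra hxr
        exact Set.disjoint_left.1 h1 hxr hz
    haveI : IsLocalRing (T ⧸ Q) := IsLocalRing.of_surjective' _ Ideal.Quotient.mk_surjective
    haveI : IsNoetherianRing (T ⧸ Q) := inferInstance
    obtain ⟨d, hd⟩ := exists_ringKrullDim_eq (R := T ⧸ Q)
    refine le_antisymm (Order.krullDim_le_one_iff.2 fun x => ?_) ?_
    · rcases (hrange x).1.eq_or_lt with h | h
      · refine Or.inl fun y hy => ?_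
        rcases hy.eq_or_lt with h' | h'
        · exact h'.ge
        · exact absurd ((hrange y).1.trans_lt (hmono h')) (by rw [h]; exact lt_irrefl _)
      · refine Or.inr fun y hy => ?_
        rcases hy.eq_or_lt with h' | h'
        · exact h'.ge
        · exact absurd ((hmono h').trans_le (hrange y).2) (hqr.2 h)
    · have hpos : 0 < ringKrullDim (T ⧸ Q) := by
        refine Order.krullDim_pos_iff.2
          ⟨⟨⊥, Ideal.isPrime_bot⟩, ⟨maximalIdeal _, inferInstance⟩, lt_of_le_of_ne (show (⊥ : Ideal (T ⧸ Q)) ≤ _ from bot_le) fun h => ?_⟩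
        have h' : maximalIdeal (T ⧸ Q) = ⊥ := (congrArg PrimeSpectrum.asIdeal h).symm
        rw [← map_maximalIdeal_of_surjective _ Ideal.Quotient.mk_surjective, Ideal.map_eq_bot_iff_le_ker,
          Ideal.mk_ker] at h'
        refine hqr.lt.not_ge fun x hx => ?_
        rw [← hQ, Ideal.mem_comap]
        exact h' ((IsLocalization.AtPrime.to_map_mem_maximal_iff T r.asIdeal x).2 hx)
      rw [hd] at hpos ⊢
      exact_mod_cast (show 0 < d by exact_mod_cast hpos)
  have := ringKrullDim_quotient_add_height (hR r.asIdeal) Q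
  rw [hdim, IsLocalization.AtPrime.ringKrullDim_eq_height r.asIdeal T] at this
  have h2 : Q.height = q.asIdeal.height := by
    rw [← IsLocalization.height_under r.asIdeal.primeCompl Q, Ideal.under_def, hQ]
  rw [h2] at this
  rw [add_comm]
  exact WithBot.coe_injective (by rw [WithBot.coe_add]; exact this.symm)

theorem quotient_isSMulRegular_monic (I : Ideal R) {f : R[X]} (hf : f.Monic) :
    IsSMulRegular (R[X] ⧸ (I.map (C : R →+* R[X]))) f := by
  intro a b hab
  obtain ⟨a, rfl⟩ := Ideal.Quotient.mk_surjective a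
  obtain ⟨b, rfl⟩ := Ideal.Quotient.mk_surjective b
  have hker : ∀ g : R[X], g ∈ I.map (C : R →+* R[X]) ↔ g.map (Ideal.Quotient.mk I) = 0 := fun g => by
    rw [Ideal.mem_map_C_iff, Polynomial.ext_iff]
    exact forall_congr' fun m => by rw [Polynomial.coeff_map, coeff_zero, Ideal.Quotient.eq_zero_iff_mem]
  change Ideal.Quotient.mk _ (f * a) = Ideal.Quotient.mk _ (f * b) at hab
  rw [Ideal.Quotient.eq, ← mul_sub, hker, Polynomial.map_mul] at hab
  rw [Ideal.Quotient.eq, hker]
  exact (hf.map _).mul_right_eq_zero_iff.1 hab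

theorem hasSeqIn_polynomial [IsLocalRing R] [IsNoetherianRing R] (hR : IsCM R) (Q : Ideal R[X]) [Q.IsPrime]
    [hQm : Q.LiesOver (maximalIdeal R)] {h : ℕ} (hh : Q.height = (h : ℕ∞)) : HasSeqIn Q R[X] h := by
  obtain ⟨rs, hrs, hd⟩ := hR
  have hm := mem_maximalIdeal_of_isRegular hrs
  have hmh : (maximalIdeal R).height = (rs.length : ℕ∞) :=
    WithBot.coe_injective ((IsLocalRing.maximalIdeal_height_eq_ringKrullDim).trans hd)
  have hrsX : IsWeaklyRegular R[X] (rs.map (algebraMap R R[X])) := hrs.toIsWeaklyRegular.of_flat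
  have hmem : ∀ r ∈ rs.map (algebraMap R R[X]), r ∈ Q := by
    intro r hr
    obtain ⟨a, ha, rfl⟩ := List.mem_map.1 hr
    exact (Ideal.mem_of_liesOver Q (maximalIdeal R) a).1 (hm a ha)
  have hmQ : (maximalIdeal R).map (C : R →+* R[X]) ≤ Q :=
    Ideal.map_le_iff_le_comap.2 fun a ha => (Ideal.mem_of_liesOver Q (maximalIdeal R) a).1 ha
  by_cases hQ : Q ≤ (maximalIdeal R).map (C : R →+* R[X])
  · refine HasSeqIn.mono ?_ ⟨_, List.length_map _, hmem, hrsX⟩
    have hle := Ideal.height_le_height_add_of_liesOver (maximalIdeal R) Q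
    rw [show Q.map (Ideal.Quotient.mk ((maximalIdeal R).map (algebraMap R R[X]))) = ⊥ by
      rw [Ideal.map_eq_bot_iff_le_ker, Ideal.mk_ker]; exact hQ, hh, hmh] at hle
    haveI : ((maximalIdeal R).map (algebraMap R R[X])).IsPrime :=
      Ideal.isPrime_map_C_of_isPrime (R := R) (P := maximalIdeal R)
    haveI : IsDomain (R[X] ⧸ (maximalIdeal R).map (algebraMap R R[X])) := Ideal.Quotient.isDomain _
    rw [Ideal.height_bot, add_zero] at hle
    exact_mod_cast hle
  · letI := Ideal.Quotient.field (maximalIdeal R)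
    obtain ⟨g, hgQ, hg⟩ := SetLike.not_le_iff_exists.1 hQ
    let φ := Polynomial.mapRingHom (Ideal.Quotient.mk (maximalIdeal R))
    have hker : RingHom.ker φ = (maximalIdeal R).map (C : R →+* R[X]) := by
      rw [Polynomial.ker_mapRingHom, Ideal.mk_ker]
    have hg0 : φ g ≠ 0 := fun h0 => hg (hker ▸ h0)
    let g' := φ g * C (φ g).leadingCoeff⁻¹
    have hmon : g'.Monic := monic_mul_leadingCoeff_inv hg0
    obtain ⟨f, hf, -, hfm⟩ := lifts_and_degree_eq_and_monic
      (map_surjective _ Ideal.Quotient.mk_surjective g' : ∃ q, Polynomial.map (Ideal.Quotient.mk (maximalIdeal R)) q = g') hmon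
    have hfQ : f ∈ Q := by
      obtain ⟨c, hc⟩ := map_surjective _ Ideal.Quotient.mk_surjective (C (φ g).leadingCoeff⁻¹)
      have h1 : f - g * c ∈ RingHom.ker φ := by
        rw [RingHom.mem_ker, map_sub, map_mul, sub_eq_zero]
        show f.map _ = φ g * c.map _
        rw [hf, hc]
      have h2 := add_mem (hmQ (hker ▸ h1)) (Ideal.mul_mem_right c Q hgQ)
      rwa [sub_add_cancel] at h2
    haveI : Q.IsMaximal := by
      have hle : RingHom.ker φ ≤ Q := hker ▸ hmQ
      have hsurj : Function.Surjective φ := map_surjective _ Ideal.Quotient.mk_surjective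
      haveI : (Q.map φ).IsPrime := Ideal.map_isPrime_of_surjective hsurj hle
      have hne : Q.map φ ≠ ⊥ := fun h0 => hQ (hker ▸ (Ideal.map_eq_bot_iff_le_ker _).1 h0)
      haveI : (Q.map φ).IsMaximal := Ideal.IsPrime.isMaximal inferInstance hne
      rw [← sup_eq_left.2 hle, RingHom.ker_eq_comap_bot, ← Ideal.comap_map_of_surjective φ hsurj]
      exact Ideal.comap_isMaximal_of_surjective φ hsurj
    refine HasSeqIn.mono ?_ ⟨rs.map (algebraMap R R[X]) ++ [f], rfl, ?_, ?_⟩
    · have := Polynomial.height_eq_height_add_one (maximalIdeal R) Q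
      rw [hh, hmh] at this
      simp only [List.length_append, List.length_map, List.length_singleton]
      exact le_of_eq (by exact_mod_cast this)
    · intro r hr
      rcases List.mem_append.1 hr with hr | hr
      · exact hmem r hr
      · rw [List.mem_singleton.1 hr]; exact hfQ
    · rw [isWeaklyRegular_append_iff]
      refine ⟨hrsX, (isWeaklyRegular_singleton_iff _ _).2 ?_⟩
      have he : Ideal.ofList (rs.map (algebraMap R R[X])) • (⊤ : Submodule R[X] R[X]) =
          (Ideal.ofList rs).map (C : R →+* R[X]) := by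
        rw [Ideal.smul_eq_mul, Ideal.mul_top, Ideal.map_ofList]
        rfl
      exact ((Submodule.quotEquivOfEq _ _ he).isSMulRegular_congr f).2
        (quotient_isSMulRegular_monic (Ideal.ofList rs) hfm)

theorem isCMRing_polynomial [IsNoetherianRing R] (hR : IsCMRing R) : IsCMRing R[X] := by
  intro Q _
  let p := Q.under R
  let T := Localization.AtPrime p
  haveI : IsNoetherianRing T := IsLocalization.isNoetherianRing p.primeCompl _ inferInstance
  letI : Algebra R[X] T[X] := Polynomial.algebra R T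
  haveI : IsLocalization (p.primeCompl.map C) T[X] := Polynomial.isLocalization p.primeCompl T
  let Q' := Q.map (algebraMap R[X] T[X])
  have hdisj : Disjoint ((p.primeCompl.map C : Submonoid R[X]) : Set R[X]) Q := by
    rw [Set.disjoint_left]
    rintro _ ⟨a, ha, rfl⟩ hQ
    exact ha hQ
  haveI : Q'.IsPrime := IsLocalization.isPrime_of_isPrime_disjoint (p.primeCompl.map C) _ Q ‹_› hdisj
  have hQ' : Q'.comap (algebraMap R[X] T[X]) = Q :=
    IsLocalization.comap_map_of_isPrime_disjoint (p.primeCompl.map C) _ ‹_› hdisj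
  haveI : Q'.LiesOver (maximalIdeal T) := ⟨by
    have h1 : (Q'.under T).comap (algebraMap R T) = p := by
      rw [Ideal.under_def, Ideal.comap_comap]
      refine Eq.trans ?_ (congrArg (Ideal.comap (algebraMap R R[X])) hQ')
      rw [Ideal.comap_comap]
      congr 1
      refine RingHom.ext fun a => ?_
      show Polynomial.C (algebraMap R T a) = (Polynomial.C a).map (algebraMap R T)
      rw [Polynomial.map_C]
    rw [← IsLocalization.map_comap p.primeCompl T (Q'.under T), Ideal.under_def (A := R), h1, IsLocalization.AtPrime.map_eq_maximalIdeal p T]⟩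
  obtain ⟨h, hh⟩ := ENat.ne_top_iff_exists.1 (Ideal.height_ne_top (Ideal.IsPrime.ne_top ‹Q'.IsPrime›) : Q'.height ≠ ⊤)
  haveI : IsNoetherianRing (Localization.AtPrime Q') := IsLocalization.isNoetherianRing Q'.primeCompl _ inferInstance
  haveI : IsNoetherianRing (Localization.AtPrime Q) := IsLocalization.isNoetherianRing Q.primeCompl _ inferInstance
  obtain ⟨rs, hl, hm, hr⟩ := (hasSeqIn_polynomial (hR p) Q' hh.symm).localization (p := Q') le_rfl
  have hCM : IsCM (Localization.AtPrime Q') := by
    refine isCM_of_hasSeqIn ⟨rs, hl, hm, ?_⟩ ?_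
    · exact (LinearEquiv.extendScalarsOfIsLocalization Q'.primeCompl (Localization.AtPrime Q')
        (IsLocalizedModule.linearEquiv Q'.primeCompl (LocalizedModule.mkLinearMap Q'.primeCompl T[X])
          (Algebra.linearMap T[X] (Localization.AtPrime Q')))).isWeaklyRegular_congr rs |>.1 hr
    · rw [IsLocalization.AtPrime.ringKrullDim_eq_height Q', ← hh]; rfl
  haveI : IsLocalization.AtPrime (Localization.AtPrime Q') Q := by
    have h1 : IsLocalization.AtPrime (Localization.AtPrime Q') (Q'.comap (algebraMap R[X] T[X])) :=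
      IsLocalization.isLocalization_isLocalization_atPrime_isLocalization (p.primeCompl.map C) _ Q'
    simpa only [hQ'] using h1
  exact isCM_of_ringEquiv (IsLocalization.algEquiv Q.primeCompl (Localization.AtPrime Q')
    (Localization.AtPrime Q)).toRingEquiv hCM

end CatLib
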