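import Groth.Prelude.Def_Found
import Mathlib.RingTheory.Ideal.KrullsHeightTheorem
import Mathlib.RingTheory.Spectrum.Prime.RingHom
import Mathlib.RingTheory.Spectrum.Prime.Topology
import Mathlib.RingTheory.Localization.Ideal
import Mathlib.Order.KrullDimension

/-! Catenary orders and catenary rings. -/

set_option autoImplicit false
set_option linter.style.haveILetI false
universe u v

namespace CatLib

/-- A saturated series. -/
abbrev Saturated {α : Type*} [Preorder α] (s : LTSeries α) : Prop :=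
  ∀ i : Fin s.length, s (Fin.castSucc i) ⋖ s (Fin.succ i)

/-- A catenary ordered set. -/
def IsCat (α : Type*) [Preorder α] : Prop :=
  (∀ p q : α, p ≤ q → ∃ n : ℕ, ∀ s : LTSeries α, s.head = p → s.last = q → s.length ≤ n) ∧
  ∀ s t : LTSeries α, s.head = t.head → s.last = t.last → Saturated s → Saturated t → s.length = t.length

theorem isCatenary_iff {R : Type u} [CommRing R] : CAlg.IsCatenary R ↔ IsCat (PrimeSpectrum R) := Iff.rfl

variable {α : Type u} {β : Type v} [PartialOrder α] [PartialOrder β]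

theorem IsCat.of_embedding (h : IsCat β) (f : α ↪o β) (hf : (Set.range f).OrdConnected) : IsCat α := by
  refine ⟨fun p q hpq => ?_, fun s t hh hl hs ht => ?_⟩
  · obtain ⟨n, hn⟩ := h.1 (f p) (f q) (f.monotone hpq)
    exact ⟨n, fun s h1 h2 => hn (s.map f f.strictMono) (by rw [LTSeries.head_map, h1])
      (by rw [LTSeries.last_map, h2])⟩
  · exact h.2 (s.map f f.strictMono) (t.map f f.strictMono)
      (by rw [LTSeries.head_map, LTSeries.head_map, hh]) (by rw [LTSeries.last_map, LTSeries.last_map, hl])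
      (fun i => CovBy.image f (hs i) hf) (fun i => CovBy.image f (ht i) hf)

theorem IsCat.of_orderIso (h : IsCat β) (e : α ≃o β) : IsCat α :=
  h.of_embedding e.toOrderEmbedding
    (by rw [show Set.range e.toOrderEmbedding = Set.univ from e.surjective.range_eq]; exact Set.ordConnected_univ)

/-- Being catenary is a property of the intervals. -/
theorem isCat_of_forall_interval
    (h : ∀ p q : α, p ≤ q → ∃ S : Set α, Set.Icc p q ⊆ S ∧ IsCat S) : IsCat α := by
  have key : ∀ (s : LTSeries α) (S : Set α), Set.Icc s.head s.last ⊆ S → ∃ t : LTSeries S,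
      t.length = s.length ∧ (t.head : α) = s.head ∧ (t.last : α) = s.last ∧ (Saturated s → Saturated t) := by
    intro s S hS
    have hmem : ∀ i, s i ∈ S := fun i => hS ⟨s.head_le i, s.monotone (Fin.le_last i)⟩
    refine ⟨⟨s.length, fun i => ⟨s i, hmem i⟩, fun i => s.step i⟩, rfl, rfl, rfl, fun hs i => ?_⟩
    exact ⟨(hs i).1, fun c hc1 hc2 => (hs i).2 (c := (c : α)) hc1 hc2⟩
  refine ⟨fun p q hpq => ?_, fun s t hh hl hs ht => ?_⟩
  · obtain ⟨S, hS, hC⟩ := h p q hpq
    obtain ⟨n, hn⟩ := hC.1 ⟨p, hS ⟨le_rfl, hpq⟩⟩ ⟨q, hS ⟨hpq, le_rfl⟩⟩ hpq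
    refine ⟨n, fun s h1 h2 => ?_⟩
    obtain ⟨t, htl, hth, htt, -⟩ := key s S (by rw [h1, h2]; exact hS)
    rw [← htl]
    exact hn t (Subtype.ext (hth.trans h1)) (Subtype.ext (htt.trans h2))
  · obtain ⟨S, hS, hC⟩ := h s.head s.last s.head_le_last
    obtain ⟨s', hsl, hsh, hst, hss⟩ := key s S hS
    obtain ⟨t', htl, hth, htt, hts⟩ := key t S (by rw [← hh, ← hl]; exact hS)
    rw [← hsl, ← htl]
    exact hC.2 s' t' (Subtype.ext (by rw [hsh, hth, hh])) (Subtype.ext (by rw [hst, htt, hl])) (hss hs) (hts ht)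

theorem exists_saturated {p q : α} (hpq : p ≤ q)
    (hb : ∃ n : ℕ, ∀ s : LTSeries α, s.head = p → s.last = q → s.length ≤ n) :
    ∃ s : LTSeries α, s.head = p ∧ s.last = q ∧ Saturated s ∧
      ∀ t : LTSeries α, t.head = p → t.last = q → t.length ≤ s.length := by
  classical
  obtain ⟨n, hn⟩ := hb
  let L : Set ℕ := {k | ∃ s : LTSeries α, s.head = p ∧ s.last = q ∧ s.length = k}
  have hne : L.Nonempty := by
    rcases hpq.eq_or_lt with h | h
    · subst h
      exact ⟨0, RelSeries.singleton _ p, rfl, rfl, rfl⟩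
    · exact ⟨1, (RelSeries.singleton _ p).snoc q h, rfl, RelSeries.last_snoc _ _ _, rfl⟩
  have hbdd : BddAbove L := ⟨n, by rintro k ⟨s, h1, h2, rfl⟩; exact hn s h1 h2⟩
  obtain ⟨s, h1, h2, hlen⟩ := Nat.sSup_mem hne hbdd
  have hmax : ∀ t : LTSeries α, t.head = p → t.last = q → t.length ≤ s.length := fun t ht1 ht2 =>
    hlen ▸ le_csSup hbdd ⟨t, ht1, ht2, rfl⟩
  refine ⟨s, h1, h2, fun i => ?_, hmax⟩
  refine ⟨s.step i, fun c hc1 hc2 => ?_⟩
  let t : LTSeries α := s.insertNth i c hc1 hc2
  have hth : t.head = p := by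
    rw [← h1]
    show Fin.insertNth (α := fun _ => α) (i.succ.castSucc) c s.toFun 0 = s.toFun 0
    rw [Fin.insertNth_apply_below (by simp [Fin.lt_def])]
    simp
  have htl : t.last = q := by
    rw [← h2]
    show Fin.insertNth (α := fun _ => α) (i.succ.castSucc) c s.toFun (Fin.last _) = s.toFun (Fin.last _)
    rw [Fin.insertNth_apply_above (by simp [Fin.lt_def])]
    simp only [eq_rec_constant]
    congr 1
  exact absurd (hmax t hth htl) (by show ¬ s.length + 1 ≤ s.length; omega)

/-- A rank function starting at each element gives catenarity. -/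
theorem isCat_of_rank (hb : ∀ p q : α, p ≤ q → ∃ n : ℕ, ∀ s : LTSeries α, s.head = p → s.last = q → s.length ≤ n)
    (hg : ∀ p : α, ∃ g : α → ℕ, ∀ q r, p ≤ q → q ⋖ r → g r = g q + 1) : IsCat α := by
  refine ⟨hb, fun s t hh hl hs ht => ?_⟩
  obtain ⟨g, hg⟩ := hg s.head
  have key : ∀ u : LTSeries α, u.head = s.head → Saturated u → g u.last = g s.head + u.length := by
    intro u hu hus
    suffices h : ∀ (j : ℕ) (hj : j < u.length + 1), g (u ⟨j, hj⟩) = g s.head + j from h u.length (Nat.lt_succ_self _)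
    intro j
    induction j with
    | zero => intro hj; rw [← hu]; rfl
    | succ j ih =>
      intro hj
      have := hg (u (Fin.castSucc ⟨j, by omega⟩)) (u (Fin.succ ⟨j, by omega⟩)) (hu ▸ u.head_le _) (hus ⟨j, by omega⟩)
      rw [show (⟨j + 1, hj⟩ : Fin (u.length + 1)) = Fin.succ ⟨j, by omega⟩ from rfl, this,
        show Fin.castSucc ⟨j, _⟩ = (⟨j, by omega⟩ : Fin (u.length + 1)) from rfl, ih (by omega)]
      omega
  have h1 := key s rfl hs
  have h2 := key t hh.symm ht
  rw [hl] at h1
  omega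

theorem bounded_of_height (hfin : ∀ a : α, Order.height a ≠ ⊤) (p q : α) :
    ∃ n : ℕ, ∀ s : LTSeries α, s.head = p → s.last = q → s.length ≤ n := by
  refine ⟨(Order.height q).toNat, fun s _ h2 => ?_⟩
  rw [← ENat.coe_le_coe, ENat.coe_toNat (hfin q), ← h2]
  exact Order.length_le_height_last

theorem isCat_of_height (hfin : ∀ a : α, Order.height a ≠ ⊤)
    (h : ∀ q r : α, q ⋖ r → Order.height r = Order.height q + 1) : IsCat α := by
  refine isCat_of_rank (fun p q _ => bounded_of_height hfin p q)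
    fun _ => ⟨fun a => (Order.height a).toNat, fun q r _ hqr => ?_⟩
  show (Order.height r).toNat = _
  rw [h q r hqr, ENat.toNat_add (hfin q) (by simp)]
  rfl

theorem IsCat.height_covBy [OrderBot α] (h : IsCat α) (hfin : ∀ a : α, Order.height a ≠ ⊤) {q r : α}
    (hqr : q ⋖ r) : Order.height r = Order.height q + 1 := by
  have key : ∀ a : α, ∃ s : LTSeries α, s.head = ⊥ ∧ s.last = a ∧ Saturated s ∧
      (s.length : ℕ∞) = Order.height a := by
    intro a
    obtain ⟨s, h1, h2, hs, hmax⟩ := exists_saturated (bot_le : ⊥ ≤ a) (bounded_of_height hfin ⊥ a)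
    refine ⟨s, h1, h2, hs, le_antisymm (h2 ▸ Order.length_le_height_last) ?_⟩
    refine Order.height_le fun t ht => ?_
    rcases (bot_le : ⊥ ≤ t.head).eq_or_lt with hb | hb
    · exact_mod_cast hmax t hb.symm ht
    · have := hmax (t.cons ⊥ hb) (RelSeries.head_cons _ _ _) (by rw [RelSeries.last_cons]; exact ht)
      rw [show (t.cons ⊥ hb).length = t.length + 1 by simp [RelSeries.cons, RelSeries.append, Nat.add_comm]] at this
      exact_mod_cast Nat.le_of_succ_le this
  obtain ⟨s, hsh, hsl, hss, hsn⟩ := key q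
  obtain ⟨t, hth, htl, hts, htn⟩ := key r
  let s' := s.snoc r (hsl.symm ▸ hqr.lt)
  have hstep : ∀ i : Fin (s.length + 1), s' (Fin.castSucc i) ⋖ s' (Fin.succ i) := fun i => by
    refine Fin.lastCases ?_ (fun j => ?_) i
    · show s.snoc r _ (Fin.castSucc (Fin.last s.length)) ⋖ s.snoc r _ (Fin.last (s.length + 1))
      rw [RelSeries.snoc_castSucc, RelSeries.last_snoc']
      rw [show s (Fin.last _) = q from hsl]
      exact hqr
    · show s.snoc r _ (Fin.castSucc (Fin.castSucc j)) ⋖ s.snoc r _ (Fin.castSucc (Fin.succ j))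
      rw [RelSeries.snoc_castSucc, RelSeries.snoc_castSucc]
      exact hss j
  have hs' : Saturated s' := hstep
  have := h.2 s' t (by rw [RelSeries.head_snoc, hsh, hth]) (by rw [RelSeries.last_snoc, htl]) hs' hts
  rw [← htn, ← this, ← hsn]
  exact_mod_cast (rfl : s'.length = s.length + 1)

variable {R : Type u} [CommRing R]

theorem height_ne_top [IsNoetherianRing R] (p : PrimeSpectrum R) : Order.height p ≠ ⊤ := by
  rw [← PrimeSpectrum.height_eq_orderHeight]
  exact Ideal.height_ne_top p.2.ne_top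

theorem isCatenary_of_height [IsNoetherianRing R]
    (h : ∀ q r : PrimeSpectrum R, q ⋖ r → r.asIdeal.height = q.asIdeal.height + 1) : CAlg.IsCatenary R :=
  isCatenary_iff.2 (isCat_of_height height_ne_top fun q r hqr => by
    simpa only [PrimeSpectrum.height_eq_orderHeight] using h q r hqr)

theorem isCatenary_height_covBy [IsNoetherianRing R] [IsDomain R] (h : CAlg.IsCatenary R)
    {q r : PrimeSpectrum R} (hqr : q ⋖ r) : r.asIdeal.height = q.asIdeal.height + 1 := by
  letI : OrderBot (PrimeSpectrum R) :=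
    { bot := ⟨⊥, Ideal.isPrime_bot⟩, bot_le := fun q => (bot_le : (⊥ : Ideal R) ≤ q.asIdeal) }
  simpa only [PrimeSpectrum.height_eq_orderHeight] using (isCatenary_iff.1 h).height_covBy height_ne_top hqr

/-- The spectrum of a quotient as an upper set. -/
noncomputable def quotEmb (I : Ideal R) : PrimeSpectrum (R ⧸ I) ↪o PrimeSpectrum R :=
  OrderEmbedding.ofMapLEIff (PrimeSpectrum.comap (Ideal.Quotient.mk I)) fun p q => by
    refine ⟨fun h => ?_, fun h => Ideal.comap_mono h⟩
    have := Ideal.map_mono (f := Ideal.Quotient.mk I) h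
    simpa [Ideal.map_comap_of_surjective _ Ideal.Quotient.mk_surjective] using this

theorem range_quotEmb (I : Ideal R) : Set.range (quotEmb I) = PrimeSpectrum.zeroLocus (I : Set R) := by
  show Set.range (PrimeSpectrum.comap (Ideal.Quotient.mk I)) = _
  rw [range_comap_of_surjective _ _ Ideal.Quotient.mk_surjective, Ideal.mk_ker]

theorem isCatenary_quotient (I : Ideal R) (h : CAlg.IsCatenary R) : CAlg.IsCatenary (R ⧸ I) := by
  refine isCatenary_iff.2 ((isCatenary_iff.1 h).of_embedding (quotEmb I) ?_)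
  rw [range_quotEmb]
  exact ⟨fun a ha b _ c hc => fun x hx => hc.1 (ha hx)⟩

/-- The spectrum of a localization as a convex set. -/
noncomputable def locEmb (M : Submonoid R) (S : Type u) [CommRing S] [Algebra R S] [IsLocalization M S] :
    PrimeSpectrum S ↪o PrimeSpectrum R :=
  OrderEmbedding.ofMapLEIff (PrimeSpectrum.comap (algebraMap R S)) fun p q => by
    refine ⟨fun h => ?_, fun h => Ideal.comap_mono h⟩
    exact (IsLocalization.orderEmbedding M S).le_iff_le.1 h

theorem range_locEmb (M : Submonoid R) (S : Type u) [CommRing S] [Algebra R S] [IsLocalization M S] :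
    Set.range (locEmb M S) = {p | Disjoint (M : Set R) p.asIdeal} :=
  PrimeSpectrum.localization_comap_range S M

theorem isCatenary_localization (M : Submonoid R) (S : Type u) [CommRing S] [Algebra R S]
    [IsLocalization M S] (h : CAlg.IsCatenary R) : CAlg.IsCatenary S := by
  refine isCatenary_iff.2 ((isCatenary_iff.1 h).of_embedding (locEmb M S) ?_)
  rw [range_locEmb]
  exact ⟨fun a _ b hb c hc => Disjoint.mono_right hc.2 hb⟩

theorem isCatenary_of_ringEquiv {S : Type u} [CommRing S] (e : R ≃+* S) (h : CAlg.IsCatenary R) :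
    CAlg.IsCatenary S :=
  isCatenary_iff.2 ((isCatenary_iff.1 h).of_orderIso (PrimeSpectrum.comapEquiv e).symm)

theorem isCatenary_of_surjective {S : Type u} [CommRing S] (f : R →+* S) (hf : Function.Surjective f)
    (h : CAlg.IsCatenary R) : CAlg.IsCatenary S :=
  isCatenary_of_ringEquiv (RingHom.quotientKerEquivOfSurjective hf) (isCatenary_quotient _ h)

theorem isCat_range {γ : Type u} [PartialOrder γ] (h : IsCat γ) (f : γ ↪o α) : IsCat (Set.range f) :=
  h.of_orderIso (f.orderIso).symm

theorem isCatenary_iff_localization_maximal :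
    CAlg.IsCatenary R ↔ ∀ (m : Ideal R) [m.IsMaximal], CAlg.IsCatenary (Localization.AtPrime m) := by
  refine ⟨fun h m _ => isCatenary_localization m.primeCompl _ h, fun h => isCatenary_iff.2 ?_⟩
  refine isCat_of_forall_interval fun p q _ => ?_
  obtain ⟨m, hm, hqm⟩ := Ideal.exists_le_maximal q.asIdeal q.2.ne_top
  refine ⟨_, ?_, isCat_range (isCatenary_iff.1 (h m)) (locEmb m.primeCompl (Localization.AtPrime m))⟩
  rw [range_locEmb]
  exact fun x hx => Set.disjoint_left.2 fun y hy hyx => hy (hqm (hx.2 hyx))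

theorem isCatenary_iff_quotient_minimal :
    CAlg.IsCatenary R ↔ ∀ p ∈ minimalPrimes R, CAlg.IsCatenary (R ⧸ p) := by
  refine ⟨fun h p _ => isCatenary_quotient p h, fun h => isCatenary_iff.2 ?_⟩
  refine isCat_of_forall_interval fun p q _ => ?_
  obtain ⟨P, hP, hPp⟩ := Ideal.exists_minimalPrimes_le (I := (⊥ : Ideal R)) (J := p.asIdeal) bot_le
  refine ⟨_, ?_, isCat_range (isCatenary_iff.1 (h P hP)) (quotEmb P)⟩
  rw [range_quotEmb]
  exact fun x hx => (hPp.trans hx.1 : P ≤ x.asIdeal)

end CatLib
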