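import Groth.Agent.CatLib.Completion
import Mathlib.RingTheory.Flat.FaithfullyFlat.Algebra

/-! Completions along flat local maps with trivial closed fibre. -/

set_option autoImplicit false
set_option linter.style.haveILetI false
set_option maxHeartbeats 800000
universe u

open IsLocalRing EGA4

namespace CatLib

/-- Compatible isomorphisms of truncations give an isomorphism of completions. -/
theorem exists_cpl_equiv_of_bijective {A B : Type u} [CommRing A] [CommRing B] (I : Ideal A) (J : Ideal B)
    (e : ∀ n, A ⧸ I ^ n ≃+* B ⧸ J ^ n)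
    (he : ∀ {m n : ℕ} (hle : m ≤ n) (x : A ⧸ I ^ n),
      Ideal.Quotient.factorPow J hle (e n x) = e m (Ideal.Quotient.factorPow I hle x)) :
    Nonempty (AdicCompletion I A ≃+* AdicCompletion J B) := by
  have compat : ∀ {R : Type u} [CommRing R] (K : Ideal R) {m n : ℕ} (hle : m ≤ n) (x : AdicCompletion K R),
      Ideal.Quotient.factorPow K hle (AdicCompletion.evalₐ K n x) = AdicCompletion.evalₐ K m x := by
    intro R _ K m n hle x
    induction x using AdicCompletion.induction_on with
    | _ f =>
      simp only [AdicCompletion.evalₐ_mk, Ideal.Quotient.factor_mk]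
      have h1 := SModEq.sub_mem.mp (f.2 hle)
      rw [smul_eq_mul, Ideal.mul_top] at h1
      exact (Ideal.Quotient.eq.2 h1).symm
  let F := AdicCompletion.liftRingHom J
    (fun n => (e n).toRingHom.comp (AdicCompletion.evalₐ I n).toRingHom)
    (fun {m n} hle => RingHom.ext fun x => by
      show Ideal.Quotient.factorPow J hle (e n (AdicCompletion.evalₐ I n x)) = e m (AdicCompletion.evalₐ I m x)
      rw [he hle, compat])
  let G := AdicCompletion.liftRingHom I
    (fun n => (e n).symm.toRingHom.comp (AdicCompletion.evalₐ J n).toRingHom)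
    (fun {m n} hle => RingHom.ext fun x => by
      show Ideal.Quotient.factorPow I hle ((e n).symm (AdicCompletion.evalₐ J n x)) =
        (e m).symm (AdicCompletion.evalₐ J m x)
      apply (e m).injective
      rw [RingEquiv.apply_symm_apply, ← he hle, RingEquiv.apply_symm_apply, compat])
  refine ⟨RingEquiv.ofRingHom F G (RingHom.ext fun x => AdicCompletion.ext_evalₐ fun n => ?_)
    (RingHom.ext fun x => AdicCompletion.ext_evalₐ fun n => ?_)⟩
  · show AdicCompletion.evalₐ J n (F (G x)) = _
    refine (AdicCompletion.evalₐ_liftRingHom _ _ _ _ _).trans ?_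
    show e n (AdicCompletion.evalₐ I n (G x)) = _
    rw [show AdicCompletion.evalₐ I n (G x) = (e n).symm (AdicCompletion.evalₐ J n x) from
      AdicCompletion.evalₐ_liftRingHom _ _ _ _ _, RingEquiv.apply_symm_apply]
    rfl
  · show AdicCompletion.evalₐ I n (G (F x)) = _
    refine (AdicCompletion.evalₐ_liftRingHom _ _ _ _ _).trans ?_
    show (e n).symm (AdicCompletion.evalₐ J n (F x)) = _
    rw [show AdicCompletion.evalₐ J n (F x) = e n (AdicCompletion.evalₐ I n x) from
      AdicCompletion.evalₐ_liftRingHom _ _ _ _ _, RingEquiv.symm_apply_apply]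
    rfl

/-- A faithfully flat local map that is surjective modulo every power of the maximal ideal, with trivial
closed fibre, induces an isomorphism of completions. -/
theorem exists_cpl_equiv_of_faithfullyFlat (A B : Type u) [CommRing A] [IsLocalRing A] [CommRing B] [IsLocalRing B]
    [Algebra A B] [Module.FaithfullyFlat A B]
    (hm : (maximalIdeal A).map (algebraMap A B) = maximalIdeal B)
    (hsurj : ∀ (n : ℕ) (b : B), ∃ a : A, b - algebraMap A B a ∈ maximalIdeal B ^ n) :
    Nonempty (AdicCompletion (maximalIdeal A) A ≃+* AdicCompletion (maximalIdeal B) B) := by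
  have hle : ∀ n, maximalIdeal A ^ n ≤ (maximalIdeal B ^ n).comap (algebraMap A B) := fun n => by
    rw [← hm, ← Ideal.map_pow]; exact Ideal.le_comap_map
  have hbij : ∀ n, Function.Bijective (Ideal.quotientMap (maximalIdeal B ^ n) (algebraMap A B) (hle n)) := by
    refine fun n => ⟨Ideal.quotientMap_injective' ?_, fun y => ?_⟩
    · rw [← hm, ← Ideal.map_pow, Ideal.comap_map_eq_self_of_faithfullyFlat]
    · obtain ⟨b, rfl⟩ := Ideal.Quotient.mk_surjective y
      obtain ⟨a, ha⟩ := hsurj n b
      exact ⟨Ideal.Quotient.mk _ a, by rw [Ideal.quotientMap_mk]; exact (Ideal.Quotient.eq.2 ha).symm⟩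
  refine exists_cpl_equiv_of_bijective _ _ (fun n => RingEquiv.ofBijective _ (hbij n)) fun h x => ?_
  obtain ⟨a, rfl⟩ := Ideal.Quotient.mk_surjective x
  rfl

theorem isFormallyEquidim_of_ringEquiv {A B : Type u} [CommRing A] [IsLocalRing A] [CommRing B] [IsLocalRing B]
    (e : A ≃+* B) (h : IsFormallyEquidim A) : IsFormallyEquidim B := by
  have hm : (maximalIdeal A).map e.toRingHom = maximalIdeal B :=
    map_maximalIdeal_of_surjective e.toRingHom e.surjective
  obtain ⟨E⟩ := exists_cpl_equiv_of_bijective (maximalIdeal A) (maximalIdeal B)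
    (fun n => Ideal.quotientEquiv _ _ e (by rw [Ideal.map_pow]; exact congrArg (· ^ n) hm.symm))
    (fun h x => by obtain ⟨a, rfl⟩ := Ideal.Quotient.mk_surjective x; simp)
  exact (isEquidim_congr E).1 h

/-- Formal catenarity goes up along faithfully flat local maps with trivial closed fibre and dense image. -/
theorem isFormallyCatenary_of_faithfullyFlat (A B : Type u) [CommRing A] [IsLocalRing A] [IsNoetherianRing A]
    [CommRing B] [IsLocalRing B] [IsNoetherianRing B] [Algebra A B] [Module.FaithfullyFlat A B]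
    (hm : (maximalIdeal A).map (algebraMap A B) = maximalIdeal B)
    (hsurj : ∀ (n : ℕ) (b : B), ∃ a : A, b - algebraMap A B a ∈ maximalIdeal B ^ n)
    (h : IsFormallyCatenary A) : IsFormallyCatenary B := by
  intro P hP
  let p := P.comap (algebraMap A B)
  let q : Ideal B := p.map (algebraMap A B)
  have hqP : q ≤ P := Ideal.map_comap_le
  haveI : Nontrivial (B ⧸ q) := Ideal.Quotient.nontrivial_iff.2 (ne_top_of_le_ne_top hP.ne_top hqP)
  haveI : IsLocalRing (B ⧸ q) := IsLocalRing.of_surjective' _ Ideal.Quotient.mk_surjective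
  haveI : Module.Flat (A ⧸ p) (B ⧸ q) := flat_quotient p
  have hmq : (maximalIdeal (A ⧸ p)).map (algebraMap (A ⧸ p) (B ⧸ q)) = maximalIdeal (B ⧸ q) := by
    rw [← map_maximalIdeal_of_surjective (Ideal.Quotient.mk p) Ideal.Quotient.mk_surjective,
      ← map_maximalIdeal_of_surjective (Ideal.Quotient.mk q) Ideal.Quotient.mk_surjective, ← hm,
      Ideal.map_map, Ideal.map_map]
    rfl
  haveI : IsLocalHom (algebraMap (A ⧸ p) (B ⧸ q)) :=
    ((local_hom_TFAE _).out 2 0).1 hmq.le
  haveI : Module.FaithfullyFlat (A ⧸ p) (B ⧸ q) := Module.FaithfullyFlat.of_flat_of_isLocalHom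
  obtain ⟨e⟩ := exists_cpl_equiv_of_faithfullyFlat (A ⧸ p) (B ⧸ q) hmq fun n y => by
    obtain ⟨b, rfl⟩ := Ideal.Quotient.mk_surjective y
    obtain ⟨a, ha⟩ := hsurj n b
    refine ⟨Ideal.Quotient.mk p a, ?_⟩
    rw [← map_maximalIdeal_of_surjective (Ideal.Quotient.mk q) Ideal.Quotient.mk_surjective, ← Ideal.map_pow]
    exact map_sub (Ideal.Quotient.mk q) b (algebraMap A B a) ▸ Ideal.mem_map_of_mem (Ideal.Quotient.mk q) ha
  have hq : IsFormallyEquidim (B ⧸ q) := (isEquidim_congr e).1 (h p)
  let a := P.map (Ideal.Quotient.mk q)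
  let e2 : ((B ⧸ q) ⧸ a) ≃+* B ⧸ P := DoubleQuot.quotQuotEquivQuotOfLE hqP
  haveI : Nontrivial ((B ⧸ q) ⧸ a) := e2.toEquiv.nontrivial
  haveI : IsDomain ((B ⧸ q) ⧸ a) := e2.toMulEquiv.isDomain
  exact isFormallyEquidim_of_ringEquiv e2
    ((isEquidim_quotient_iff hq a).1 (isEquidim_of_isDomain _))

end CatLib
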