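import Groth.Agent.CatLib.More
import Groth.Agent.CompleteLib.CompletionHom
import Groth.Agent.FlatCrit.Basic
import Mathlib.RingTheory.RingHom.Flat

/-! Descent of formal equidimensionality along flat local maps. -/

set_option autoImplicit false
set_option linter.style.haveILetI false
set_option maxHeartbeats 1600000
universe u

open IsLocalRing EGA4 CommAlgDim
open scoped TensorProduct

namespace CatLib

/-- The truncations of a completion. -/
theorem quotientMap_completion_bijective (A : Type u) [CommRing A] [IsLocalRing A] [IsNoetherianRing A] (m : ℕ) :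
    Function.Bijective (Ideal.quotientMap
      ((maximalIdeal A ^ m).map (algebraMap A (AdicCompletion (maximalIdeal A) A)))
      (algebraMap A (AdicCompletion (maximalIdeal A) A)) Ideal.le_comap_map) := by
  have hK : (maximalIdeal A).FG := IsNoetherian.noetherian _
  refine ⟨(injective_iff_map_eq_zero _).2 fun z hz => ?_, fun y => ?_⟩
  · obtain ⟨a, rfl⟩ := Ideal.Quotient.mk_surjective z
    rw [Ideal.quotientMap_mk, Ideal.Quotient.eq_zero_iff_mem,
      AdicRingLib.algebraMap_mem_map_pow_iff hK] at hz
    exact Ideal.Quotient.eq_zero_iff_mem.2 hz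
  · obtain ⟨x, rfl⟩ := Ideal.Quotient.mk_surjective y
    obtain ⟨a, ha⟩ := AdicRingLib.exists_sub_mem_map_pow hK m x
    exact ⟨Ideal.Quotient.mk _ a, by rw [Ideal.quotientMap_mk]; exact (Ideal.Quotient.eq.2 ha).symm⟩

theorem flat_completion_of_flat {A B : Type u} [CommRing A] [CommRing B] [Algebra A B]
    [IsLocalRing A] [IsLocalRing B] [IsNoetherianRing A] [IsNoetherianRing B] [Module.Flat A B]
    [Algebra (AdicCompletion (maximalIdeal A) A) B] [IsScalarTower A (AdicCompletion (maximalIdeal A) A) B]
    [IsLocalHom (algebraMap A B)] : Module.Flat (AdicCompletion (maximalIdeal A) A) B := by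
  haveI := isNoetherianRing_cpl A
  let Â := AdicCompletion (maximalIdeal A) A
  let I := (maximalIdeal A).map (algebraMap A Â)
  refine FlatCrit.flat_of_flat_quotient_pow (R := Â) (S := B) (M := B) I ?_ fun m => ?_
  · rw [Ideal.map_map, ← IsScalarTower.algebraMap_eq,
      jacobson_eq_maximalIdeal (⊥ : Ideal B) bot_ne_top]
    exact ((local_hom_TFAE (algebraMap A B)).out 0 2).1 ‹_›
  · have hIm : I ^ m = (maximalIdeal A ^ m).map (algebraMap A Â) := (Ideal.map_pow _ _ _).symm
    let e := Algebra.TensorProduct.quotIdealMapEquivQuotTensor B (I ^ m) (A := Â)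
    suffices h : Module.Flat (Â ⧸ I ^ m) (B ⧸ (I ^ m).map (algebraMap Â B)) from
      Module.Flat.of_linearEquiv e.symm.toLinearEquiv
    rw [hIm]
    set K := (maximalIdeal A ^ m).map (algebraMap A Â)
    let σ := RingEquiv.ofBijective _ (quotientMap_completion_bijective A m)
    have hK : K.map (algebraMap Â B) = (maximalIdeal A ^ m).map (algebraMap A B) := by
      rw [Ideal.map_map, ← IsScalarTower.algebraMap_eq]
    let τ : (B ⧸ (maximalIdeal A ^ m).map (algebraMap A B)) ≃+* (B ⧸ K.map (algebraMap Â B)) :=
      Ideal.quotEquivOfEq hK.symm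
    have hflat : (algebraMap (A ⧸ maximalIdeal A ^ m) (B ⧸ (maximalIdeal A ^ m).map (algebraMap A B))).Flat :=
      RingHom.flat_algebraMap_iff.2 (flat_quotient _)
    have h1 : (algebraMap (Â ⧸ K) (B ⧸ K.map (algebraMap Â B))) =
        τ.toRingHom.comp ((algebraMap (A ⧸ maximalIdeal A ^ m)
          (B ⧸ (maximalIdeal A ^ m).map (algebraMap A B))).comp σ.symm.toRingHom) := by
      refine RingHom.ext fun y => ?_
      obtain ⟨z, rfl⟩ := σ.surjective y
      obtain ⟨a, rfl⟩ := Ideal.Quotient.mk_surjective z
      simp only [RingHom.comp_apply, RingEquiv.toRingHom_eq_coe, RingHom.coe_coe, RingEquiv.symm_apply_apply]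
      show algebraMap (Â ⧸ K) _ (Ideal.Quotient.mk K (algebraMap A Â a)) = _
      show Ideal.Quotient.mk _ (algebraMap Â B (algebraMap A Â a)) = Ideal.Quotient.mk _ (algebraMap A B a)
      rw [← IsScalarTower.algebraMap_apply]
    rw [← RingHom.flat_algebraMap_iff, h1]
    exact (RingHom.Flat.comp ((RingHom.Flat.of_bijective σ.symm.bijective))
      hflat).comp (RingHom.Flat.of_bijective τ.bijective)

/-- Formal equidimensionality descends along flat local maps. -/
theorem isFormallyEquidim_of_flat {A B : Type u} [CommRing A] [CommRing B] [Algebra A B]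
    [IsLocalRing A] [IsLocalRing B] [IsNoetherianRing A] [IsNoetherianRing B] [Module.Flat A B]
    [IsLocalHom (algebraMap A B)] (h : IsFormallyEquidim B) : IsFormallyEquidim A := by
  haveI := isNoetherianRing_cpl A
  haveI := isNoetherianRing_cpl B
  let E := AdicCompletion (maximalIdeal B) B
  haveI : Module.Flat A E := Module.Flat.trans A B E
  haveI : IsLocalHom (algebraMap A E) := by
    rw [IsScalarTower.algebraMap_eq A B E]; infer_instance
  let θ : A →+* E := algebraMap A E
  have hθ : (maximalIdeal A).map θ ≤ maximalIdeal E := ((local_hom_TFAE θ).out 0 2).1 ‹_›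
  let ψ := CompleteLib.completionLift (maximalIdeal A) (maximalIdeal E) θ hθ
  letI : Algebra (AdicCompletion (maximalIdeal A) A) E := ψ.toAlgebra
  haveI : IsScalarTower A (AdicCompletion (maximalIdeal A) A) E :=
    IsScalarTower.of_algebraMap_eq fun a => (CompleteLib.completionLift_algebraMap _ _ θ hθ a).symm
  haveI : IsLocalHom (algebraMap (AdicCompletion (maximalIdeal A) A) E) := by
    refine ((local_hom_TFAE (algebraMap (AdicCompletion (maximalIdeal A) A) E)).out 0 2).2 ?_
    rw [AdicCompletion.maximalIdeal_eq_map, Ideal.map_map, ← IsScalarTower.algebraMap_eq]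
    exact hθ
  haveI := flat_completion_of_flat (A := A) (B := E)
  exact (equidim_catenary_descent (A := AdicCompletion (maximalIdeal A) A) (B := E) h (isCatenary_cpl B)).1

end CatLib
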