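import Groth.Agent.CatLib.Completion
import Groth.Agent.CommAlgDim.CM
import Mathlib.RingTheory.Regular.Flat
import Mathlib.RingTheory.Flat.FaithfullyFlat.Algebra

/-! Completions of quotients by primes in the support of a Cohen–Macaulay module. -/

set_option autoImplicit false
set_option linter.style.haveILetI false
set_option maxHeartbeats 800000
universe u

open IsLocalRing EGA4 CommAlgDim RingTheory.Sequence Pointwise
open scoped TensorProduct

namespace CatLib

theorem comap_mem_associatedPrimes {R S : Type u} [CommRing R] [CommRing S] [IsNoetherianRing R] [IsNoetherianRing S]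
    [Algebra R S] (hs : Function.Surjective (algebraMap R S)) {Q : Ideal S} (hQ : Q ∈ associatedPrimes S S) :
    Q.comap (algebraMap R S) ∈ associatedPrimes R S := by
  haveI := hQ.1
  obtain ⟨-, φ, hφ⟩ := (isAssociatedPrime_iff_exists_injective_linearMap _ _).1 hQ
  refine (isAssociatedPrime_iff_exists_injective_linearMap _ _).2 ⟨inferInstance,
    Submodule.liftQ _ ((φ.restrictScalars R).comp ((Submodule.mkQ Q).restrictScalars R ∘ₗ Algebra.linearMap R S))
      (fun r hr => ?_), ?_⟩
  · show φ (Ideal.Quotient.mk Q (algebraMap R S r)) = 0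
    rw [Ideal.Quotient.eq_zero_iff_mem.2 (Ideal.mem_comap.1 hr), map_zero]
  · refine LinearMap.ker_eq_bot.1 (Submodule.ker_liftQ_eq_bot _ _ _ fun r hr => ?_)
    exact Ideal.mem_comap.2 (Ideal.Quotient.eq_zero_iff_mem.1 (hφ ((show φ (Ideal.Quotient.mk Q (algebraMap R S r)) = 0 from
      LinearMap.mem_ker.1 hr).trans (map_zero φ).symm)))

variable {A : Type u} [CommRing A] [IsLocalRing A] [IsNoetherianRing A]

theorem dim_associatedPrimes_cpl : ∀ (n : ℕ) (M : Type u) [AddCommGroup M] [Module A M] [Module.Finite A M],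
    Module.supportDim A M = (n : ℕ) → HasSeqIn (maximalIdeal A) M n →
    ∀ (p : Ideal A) [p.IsPrime], (⟨p, inferInstance⟩ : PrimeSpectrum A) ∈ Module.support A M →
    ∀ Q ∈ associatedPrimes (AdicCompletion (maximalIdeal A) A)
      (AdicCompletion (maximalIdeal A) A ⧸ p.map (algebraMap A (AdicCompletion (maximalIdeal A) A))),
      ringKrullDim (AdicCompletion (maximalIdeal A) A ⧸ Q) = ringKrullDim (A ⧸ p) := by
  intro n
  induction n using Nat.strong_induction_on with
  | _ n ih =>
  intro M _ _ _ hn hseq p _ hp Q hQ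
  haveI := isNoetherianRing_cpl A
  let Â := AdicCompletion (maximalIdeal A) A
  haveI : Nontrivial M := (Module.supportDim_ne_bot_iff_nontrivial A M).1 (by rw [hn]; simp)
  by_cases hass : p ∈ associatedPrimes A M
  · obtain ⟨rs, hlen, hmem, hreg⟩ := hseq
    have hR : IsRegular M rs := ⟨hreg, fun h => Submodule.top_ne_ideal_smul_of_le_jacobson_annihilator
      ((Ideal.span_le.2 fun r hr => hmem r hr).trans (maximalIdeal_le_jacobson _)) h⟩
    haveI : IsLocalHom (algebraMap A Â) := ((local_hom_TFAE _).out 2 0).1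
      (by rw [AdicCompletion.maximalIdeal_eq_map])
    haveI : Module.FaithfullyFlat A Â := Module.FaithfullyFlat.of_flat_of_isLocalHom
    have hR' : IsRegular (Â ⊗[A] M) (rs.map (algebraMap A Â)) :=
      hR.of_faithfullyFlat_of_isBaseChange (TensorProduct.isBaseChange A M Â)
    obtain ⟨-, φ, hφ⟩ := (isAssociatedPrime_iff_exists_injective_linearMap _ _).1 hass
    let e := Algebra.TensorProduct.quotIdealMapEquivTensorQuot Â p
    let ψ : (Â ⧸ p.map (algebraMap A Â)) →ₗ[Â] Â ⊗[A] M := (φ.baseChange Â).comp e.toLinearEquiv.toLinearMap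
    have hψ : Function.Injective ψ :=
      (Module.Flat.lTensor_preserves_injective_linearMap φ hφ).comp e.injective
    have h1 := length_le_ringKrullDim_of_mem_associatedPrimes _ _ hR' Q (associatedPrimes.subset_of_injective hψ hQ)
    rw [List.length_map, hlen] at h1
    haveI := Ideal.Quotient.nontrivial_iff.2 (inferInstance : p.IsPrime).ne_top
    haveI : IsLocalRing (A ⧸ p) := IsLocalRing.of_surjective' _ Ideal.Quotient.mk_surjective
    have h2 : ringKrullDim (A ⧸ p) ≤ (n : ℕ) := by
      rw [← hn, Module.supportDim_eq_ringKrullDim_quotient_annihilator]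
      exact ringKrullDim_le_of_surjective (Ideal.Quotient.factor (Module.mem_support_iff_of_finite.1 hp))
        (Ideal.Quotient.factor_surjective _)
    have h3 : ringKrullDim (Â ⧸ Q) ≤ ringKrullDim (A ⧸ p) := by
      obtain ⟨E⟩ := exists_cpl_quotient_equiv (A := A) (A ⧸ p) Ideal.Quotient.mk_surjective
      rw [← ringKrullDim_cpl (A ⧸ p), ringKrullDim_eq_of_ringEquiv E, Ideal.Quotient.algebraMap_eq, Ideal.mk_ker]
      have hle : p.map (algebraMap A Â) ≤ Q := by
        obtain ⟨hQp, φQ, hφQ⟩ := (isAssociatedPrime_iff_exists_injective_linearMap _ _).1 hQ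
        intro x hx
        refine Ideal.Quotient.eq_zero_iff_mem.1 (hφQ ?_)
        rw [map_zero, show Ideal.Quotient.mk Q x = x • (1 : Â ⧸ Q) by
          rw [Algebra.smul_def, mul_one]; rfl, map_smul, Algebra.smul_def, Ideal.Quotient.algebraMap_eq,
          Ideal.Quotient.eq_zero_iff_mem.2 hx, zero_mul]
      exact ringKrullDim_le_of_surjective (Ideal.Quotient.factor hle) (Ideal.Quotient.factor_surjective _)
    exact le_antisymm h3 (h2.trans h1)
  · have hne : ∀ P ∈ associatedPrimes A M, ¬ p ≤ P := by
      intro P hP hle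
      obtain ⟨rs, hlen, hmem, hreg⟩ := hseq
      have hR : IsRegular M rs := ⟨hreg, fun h => Submodule.top_ne_ideal_smul_of_le_jacobson_annihilator
        ((Ideal.span_le.2 fun r hr => hmem r hr).trans (maximalIdeal_le_jacobson _)) h⟩
      haveI := hP.1
      have h1 := length_le_ringKrullDim_of_mem_associatedPrimes _ _ hR P hP
      rw [hlen, ← hn, Module.supportDim_eq_ringKrullDim_quotient_annihilator] at h1
      have hpP : p < P := lt_of_le_of_ne hle fun h => hass (h ▸ hP)
      obtain ⟨y, hyP, hy⟩ := SetLike.exists_of_lt hpP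
      haveI := Ideal.Quotient.nontrivial_iff.2 hP.1.ne_top
      haveI : IsLocalRing (A ⧸ P) := IsLocalRing.of_surjective' _ Ideal.Quotient.mk_surjective
      obtain ⟨k, hk⟩ := exists_ringKrullDim_eq (R := A ⧸ P)
      have h2 : ringKrullDim (A ⧸ P) + 1 ≤ ringKrullDim (A ⧸ p) :=
        ringKrullDim_succ_le_of_surjective (Ideal.Quotient.factor hle) (Ideal.Quotient.factor_surjective _)
          (r := Ideal.Quotient.mk p y) (mem_nonZeroDivisors_of_ne_zero fun h0 => hy (Ideal.Quotient.eq_zero_iff_mem.1 h0))
          (Ideal.Quotient.eq_zero_iff_mem.2 hyP)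
      have h3 := h2.trans (ringKrullDim_le_of_surjective (Ideal.Quotient.factor (Module.mem_support_iff_of_finite.1 hp))
        (Ideal.Quotient.factor_surjective _))
      rw [← Module.supportDim_eq_ringKrullDim_quotient_annihilator, hn, hk] at h3
      rw [← Module.supportDim_eq_ringKrullDim_quotient_annihilator, hn, hk] at h1
      have h3' : k + 1 ≤ n := by exact_mod_cast h3
      have h1' : n ≤ k := by exact_mod_cast h1
      omega
    obtain ⟨x, hx, hxreg⟩ := exists_isSMulRegular_mem hne
    have hxm : x ∈ maximalIdeal A := le_maximalIdeal (inferInstance : p.IsPrime).ne_top hx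
    have hdim := Module.supportDim_quotSMulTop_succ_eq_supportDim hxreg hxm
    haveI : Nontrivial (QuotSMulTop x M) := by
      refine not_subsingleton_iff_nontrivial.1 fun hs => ?_
      rw [Module.supportDim_eq_bot_of_subsingleton, WithBot.bot_add, hn] at hdim
      exact absurd hdim (by simp)
    obtain ⟨n', hn'⟩ : ∃ n' : ℕ, Module.supportDim A (QuotSMulTop x M) = (n' : ℕ) := by
      rw [Module.supportDim_eq_ringKrullDim_quotient_annihilator]
      haveI := Ideal.Quotient.nontrivial_iff.2 (fun h : Module.annihilator A (QuotSMulTop x M) = ⊤ =>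
        not_subsingleton (QuotSMulTop x M) (Module.annihilator_eq_top_iff.1 h))
      haveI : IsLocalRing (A ⧸ Module.annihilator A (QuotSMulTop x M)) :=
        IsLocalRing.of_surjective' _ Ideal.Quotient.mk_surjective
      exact exists_ringKrullDim_eq
    rw [hn', hn] at hdim
    have hnn : n' + 1 = n := by exact_mod_cast hdim
    refine ih n' (by omega) (QuotSMulTop x M) hn' (HasSeqIn.quotSMulTop hxm hxreg (hnn ▸ hseq)) p ?_ Q hQ
    rw [Module.support_quotSMulTop]
    exact ⟨hp, by simpa [PrimeSpectrum.mem_zeroLocus] using hx⟩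

theorem isFormallyStrictlyCatenary_of_cmModule (M : Type u) [AddCommGroup M] [Module A M] [Module.Finite A M]
    (hCM : LocCoh.IsCohenMacaulayModule A M) (hsupp : Module.support A M = Set.univ) :
    IsFormallyStrictlyCatenary A := by
  haveI : Nontrivial M := by
    refine not_subsingleton_iff_nontrivial.1 fun hs => ?_
    rw [Module.support_eq_empty] at hsupp
    exact Set.empty_ne_univ hsupp
  obtain ⟨n, hn⟩ : ∃ n : ℕ, Module.supportDim A M = (n : ℕ) := by
    rw [Module.supportDim_eq_ringKrullDim_quotient_annihilator]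
    haveI := Ideal.Quotient.nontrivial_iff.2 (fun h : Module.annihilator A M = ⊤ =>
      not_subsingleton M (Module.annihilator_eq_top_iff.1 h))
    haveI : IsLocalRing (A ⧸ Module.annihilator A M) := IsLocalRing.of_surjective' _ Ideal.Quotient.mk_surjective
    exact exists_ringKrullDim_eq
  have hseq : HasSeqIn (maximalIdeal A) M n := by
    refine (le_depth_iff n).1 ?_
    have h := hCM
    rw [LocCoh.IsCohenMacaulayModule, hn] at h
    exact le_of_eq (WithBot.coe_inj.1 h)
  intro p hp
  haveI := hp
  haveI := Ideal.Quotient.nontrivial_iff.2 hp.ne_top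
  haveI : IsLocalRing (A ⧸ p) := IsLocalRing.of_surjective' _ Ideal.Quotient.mk_surjective
  haveI := isNoetherianRing_cpl A
  haveI := isNoetherianRing_cpl (A ⧸ p)
  obtain ⟨E⟩ := exists_cpl_quotient_equiv (A := A) (A ⧸ p) Ideal.Quotient.mk_surjective
  rw [Ideal.Quotient.algebraMap_eq, Ideal.mk_ker] at E
  letI : Algebra (AdicCompletion (maximalIdeal A) A) (AdicCompletion (maximalIdeal (A ⧸ p)) (A ⧸ p)) :=
    (E.symm.toRingHom.comp (Ideal.Quotient.mk _)).toAlgebra
  intro Q hQ
  have hs : Function.Surjective (algebraMap (AdicCompletion (maximalIdeal A) A)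
      (AdicCompletion (maximalIdeal (A ⧸ p)) (A ⧸ p))) := E.symm.surjective.comp Ideal.Quotient.mk_surjective
  have hQ' := comap_mem_associatedPrimes hs hQ
  let L : AdicCompletion (maximalIdeal (A ⧸ p)) (A ⧸ p) ≃ₗ[AdicCompletion (maximalIdeal A) A]
      (AdicCompletion (maximalIdeal A) A ⧸ p.map (algebraMap A (AdicCompletion (maximalIdeal A) A))) :=
    { E with
      map_smul' := fun r y => by
        show E (r • y) = r • E y
        rw [Algebra.smul_def, Algebra.smul_def, map_mul]
        congr 1
        exact E.apply_symm_apply _ }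
  rw [LinearEquiv.AssociatedPrimes.eq L] at hQ'
  have h := dim_associatedPrimes_cpl n M hn hseq p (by rw [hsupp]; trivial) _ hQ'
  rw [ringKrullDim_cpl, ← h]
  exact (ringKrullDim_eq_of_ringEquiv
    ((Ideal.quotEquivOfEq (show Q.comap (algebraMap _ _) = RingHom.ker ((Ideal.Quotient.mk Q).comp (algebraMap _ _)) by rw [← RingHom.comap_ker, Ideal.mk_ker])).trans
      (RingHom.quotientKerEquivOfSurjective (f := (Ideal.Quotient.mk Q).comp (algebraMap _ _))
        (Ideal.Quotient.mk_surjective.comp hs)))).symm

theorem isFormallyEquidim_of_cmModule (M : Type u) [AddCommGroup M] [Module A M] [Module.Finite A M]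
    (hCM : LocCoh.IsCohenMacaulayModule A M) (hsupp : Module.support A M = Set.univ)
    (heq : IsEquidim A) : IsFormallyEquidim A := by
  haveI := isNoetherianRing_cpl A
  have h := isFormallyStrictlyCatenary_of_cmModule M hCM hsupp
  intro P hP
  have hP' : P ∈ ((⊥ : Ideal A).map (algebraMap A (AdicCompletion (maximalIdeal A) A))).minimalPrimes := by
    rw [Ideal.map_bot]; exact hP
  obtain ⟨hp, hP''⟩ := under_mem_minimalPrimes hP'
  haveI := hp.1.1
  set p := P.comap (algebraMap A (AdicCompletion (maximalIdeal A) A))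
  haveI : IsLocalRing (A ⧸ p) := IsLocalRing.of_surjective' _ Ideal.Quotient.mk_surjective
  haveI := isNoetherianRing_cpl (A ⧸ p)
  obtain ⟨E⟩ := exists_cpl_quotient_equiv (A := A) (A ⧸ p) Ideal.Quotient.mk_surjective
  rw [Ideal.Quotient.algebraMap_eq, Ideal.mk_ker] at E
  have hEq : IsEquidim (AdicCompletion (maximalIdeal (A ⧸ p)) (A ⧸ p)) := fun Q hQ =>
    h p Q (Module.associatedPrimes.minimalPrimes_annihilator_subset_associatedPrimes _ _ (by rwa [Module.annihilator_eq_bot.2 inferInstance]))
  have h1 := isEquidim_of_ringEquiv E hEq _ (map_mem_minimalPrimes hP'')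
  rw [ringKrullDim_quotient_quotient_map hP''.1.2, ← ringKrullDim_eq_of_ringEquiv E, ringKrullDim_cpl,
    heq p hp] at h1
  rw [h1, ringKrullDim_cpl]

theorem isEquidim_of_cmModule (M : Type u) [AddCommGroup M] [Module A M] [Module.Finite A M]
    (hCM : LocCoh.IsCohenMacaulayModule A M) (hsupp : Module.support A M = Set.univ) : IsEquidim A := by
  intro p hp
  haveI := hp.1.1
  haveI := Ideal.Quotient.nontrivial_iff.2 hp.1.1.ne_top
  have hdim : Module.supportDim A M = ringKrullDim A := by
    rw [Module.supportDim, hsupp]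
    exact Order.krullDim_eq_of_orderIso OrderIso.Set.univ
  obtain ⟨n, hn⟩ := exists_ringKrullDim_eq (R := A)
  haveI : Nontrivial M := (Module.supportDim_ne_bot_iff_nontrivial A M).1 (by rw [hdim, hn]; simp)
  obtain ⟨rs, hlen, hmem, hreg⟩ : HasSeqIn (maximalIdeal A) M n := by
    refine (le_depth_iff n).1 ?_
    have h := hCM
    rw [LocCoh.IsCohenMacaulayModule, hdim, hn] at h
    exact le_of_eq (WithBot.coe_inj.1 h)
  have hR : IsRegular M rs := ⟨hreg, fun h => Submodule.top_ne_ideal_smul_of_le_jacobson_annihilator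
    ((Ideal.span_le.2 fun r hr => hmem r hr).trans (maximalIdeal_le_jacobson _)) h⟩
  have hp' : p ∈ (Module.annihilator A M).minimalPrimes := by
    have hle : Module.annihilator A M ≤ p :=
      Module.mem_support_iff_of_finite.1 (show (⟨p, inferInstance⟩ : PrimeSpectrum A) ∈ Module.support A M by
        rw [hsupp]; trivial)
    exact ⟨⟨inferInstance, hle⟩, fun q hq hqp => hp.2 ⟨hq.1, bot_le⟩ hqp⟩
  have h1 := length_le_ringKrullDim_of_mem_associatedPrimes _ _ hR p
    (Module.associatedPrimes.minimalPrimes_annihilator_subset_associatedPrimes A M hp')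
  rw [hlen, ← hn] at h1
  exact le_antisymm (ringKrullDim_quotient_le p) h1

end CatLib
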