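import Groth.Agent.CatLib.More
import Groth.Agent.CatLib.Ratliff

/-! Heights of maximal ideals in finite extensions of universally catenary domains. -/

set_option autoImplicit false
set_option linter.style.haveILetI false
set_option maxHeartbeats 800000
universe u

open CommAlgDim
open scoped Polynomial

namespace CatLib

/-- Heights are additive in catenary domains. -/
theorem height_add_height_map {R : Type u} [CommRing R] [IsDomain R] [IsNoetherianRing R]
    (h : CAlg.IsCatenary R) (P : Ideal R) [P.IsPrime] (M : PrimeSpectrum (R ⧸ P)) :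
    (quotEmb P M).asIdeal.height = P.height + M.asIdeal.height := by
  have hR' : CAlg.IsCatenary (R ⧸ P) := isCatenary_quotient P h
  haveI : WellFoundedGT (PrimeSpectrum (R ⧸ P)) :=
    StrictMono.wellFoundedGT (f := fun q : PrimeSpectrum (R ⧸ P) => q.asIdeal) (fun _ _ h => h)
  suffices key : ∀ (k : ℕ) (M : PrimeSpectrum (R ⧸ P)), M.asIdeal.height = (k : ℕ∞) →
      (quotEmb P M).asIdeal.height = P.height + (k : ℕ∞) by
    obtain ⟨k, hk⟩ := ENat.ne_top_iff_exists.1 (show M.asIdeal.height ≠ ⊤ from Ideal.height_ne_top M.2.ne_top)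
    rw [← hk]
    exact key k M hk.symm
  intro k
  induction k with
  | zero =>
    intro M hM
    rw [Nat.cast_zero, Ideal.height_eq_zero_iff, IsDomain.minimalPrimes_eq_singleton_bot, Set.mem_singleton_iff] at hM
    show (M.asIdeal.comap (Ideal.Quotient.mk P)).height = _
    rw [hM, ← RingHom.ker_eq_comap_bot, Ideal.mk_ker, Nat.cast_zero, add_zero]
  | succ k ih =>
    intro M hM
    let z : PrimeSpectrum (R ⧸ P) := ⟨⊥, Ideal.isPrime_bot⟩
    have hz : z < M := lt_of_le_of_ne (show (⊥ : Ideal (R ⧸ P)) ≤ M.asIdeal from bot_le) fun h => by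
      rw [← h] at hM
      simp [z] at hM
      exact absurd hM.symm (by simp)
    obtain ⟨q, hq, hmax⟩ := WellFounded.has_min (wellFounded_gt (α := PrimeSpectrum (R ⧸ P))) {q | q < M} ⟨z, hz⟩
    have hcov : q ⋖ M := ⟨hq, fun r h1 h2 => hmax r h2 h1⟩
    have h1 := isCatenary_height_covBy hR' hcov
    rw [hM] at h1
    have hq' : q.asIdeal.height = (k : ℕ∞) := by
      have h2 : ((k + 1 : ℕ) : ℕ∞) = q.asIdeal.height + 1 := h1
      rw [Nat.cast_succ] at h2
      exact ((ENat.add_left_injective_of_ne_top ENat.one_ne_top) h2).symm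
    have hcov' : quotEmb P q ⋖ quotEmb P M := by
      refine hcov.image (quotEmb P) ?_
      rw [range_quotEmb]
      exact ⟨fun a ha b _ c hc => fun x hx => hc.1 (ha hx)⟩
    rw [isCatenary_height_covBy h hcov', ih q hq', Nat.cast_succ, add_assoc]

/-- A simple algebraic extension preserves heights of maximal ideals over maximal ideals. -/
theorem height_eq_of_simple_ext {B C : Type u} [CommRing B] [IsDomain B] [IsNoetherianRing B] [CommRing C] [IsDomain C]
    [Algebra B C] (hB : CAlg.IsCatenary B[X]) (x : C)
    (hs : Function.Surjective (Polynomial.aeval (R := B) x)) (hinj : Function.Injective (algebraMap B C))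
    (halg : IsIntegral B x) (n : Ideal C) [n.IsMaximal] :
    n.height = (n.comap (algebraMap B C)).height := by
  let φ : B[X] →+* C := (Polynomial.aeval (R := B) x).toRingHom
  let P : Ideal B[X] := RingHom.ker φ
  haveI : P.IsPrime := RingHom.ker_isPrime _
  have hpC : ∀ r : B, Polynomial.C r ∈ P → r = 0 := fun r hr => hinj (by
    simpa [P, φ, RingHom.mem_ker] using hr)
  have hP0 : P.height ≠ 0 := by
    intro h
    rw [Ideal.height_eq_zero_iff, IsDomain.minimalPrimes_eq_singleton_bot, Set.mem_singleton_iff] at h
    obtain ⟨f, hf, hfx⟩ := halg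
    have : f ∈ P := by simpa [P, φ, RingHom.mem_ker, Polynomial.aeval_def] using hfx
    rw [h, Ideal.mem_bot] at this
    exact hf.ne_zero this
  have hP1 : P.height = 1 := le_antisymm (height_le_one_of_comap_C_eq_bot P hpC) (Order.one_le_iff_ne_zero.2 hP0)
  let M : Ideal B[X] := n.comap φ
  haveI : M.IsMaximal := Ideal.comap_isMaximal_of_surjective φ hs
  haveI : M.LiesOver (n.comap (algebraMap B C)) := ⟨by
    show n.comap (algebraMap B C) = (n.comap φ).comap (algebraMap B B[X])
    rw [Ideal.comap_comap]
    exact congrArg (fun g => n.comap g) (RingHom.ext fun b => by simp [φ])⟩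
  let e : B[X] ⧸ P ≃+* C := RingHom.quotientKerEquivOfSurjective hs
  let n' : PrimeSpectrum (B[X] ⧸ P) := ⟨n.comap e, inferInstance⟩
  have h1 := height_add_height_map hB P n'
  have h2 : (quotEmb P n').asIdeal = M := by
    show (n.comap e).comap (Ideal.Quotient.mk P) = n.comap φ
    rfl
  rw [h2, Polynomial.height_eq_height_add_one (n.comap (algebraMap B C)) M, hP1,
    show n'.asIdeal.height = n.height from e.height_comap n, add_comm (1 : ℕ∞)] at h1
  exact ((ENat.add_left_injective_of_ne_top ENat.one_ne_top) h1).symm

theorem height_eq_of_finite {A B : Type u} [CommRing A] [IsDomain A] [IsNoetherianRing A] [IsLocalRing A]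
    (hA : CAlg.IsUniversallyCatenary A) [CommRing B] [IsDomain B] [Algebra A B] [FaithfulSMul A B]
    [Module.Finite A B] (n : Ideal B) [n.IsMaximal] :
    n.height = (IsLocalRing.maximalIdeal A).height := by
  classical
  obtain ⟨s, hs⟩ := Algebra.FiniteType.out (R := A) (A := B)
  suffices key : ∀ s : Finset B, ∀ n : Ideal (Algebra.adjoin A (s : Set B)), n.IsMaximal →
      n.height = (IsLocalRing.maximalIdeal A).height by
    let e : (Algebra.adjoin A (s : Set B)) ≃+* B :=
      ((Subalgebra.equivOfEq _ _ hs).trans Subalgebra.topEquiv).toRingEquiv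
    rw [← e.height_comap n]
    exact key s _ (Ideal.comap_isMaximal_of_surjective e e.surjective)
  intro s
  induction s using Finset.induction_on with
  | empty =>
    rw [Finset.coe_empty, Algebra.adjoin_empty]
    intro n hn
    have hinj : Function.Injective (algebraMap A B) := FaithfulSMul.algebraMap_injective A B
    let e : A ≃+* (⊥ : Subalgebra A B) := (Algebra.botEquivOfInjective hinj).symm.toRingEquiv
    rw [← e.height_comap n]
    haveI := Ideal.comap_isMaximal_of_surjective e e.surjective (K := n)
    exact congrArg Ideal.height (IsLocalRing.eq_maximalIdeal inferInstance)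
  | insert a s _ ih =>
    rw [Finset.coe_insert, Set.insert_eq, Set.union_comm, Algebra.adjoin_union_eq_adjoin_adjoin]
    intro n hn
    let B' := Algebra.adjoin A (s : Set B)
    let T := Algebra.adjoin B' ({a} : Set B)
    change Ideal T at n
    haveI : n.IsMaximal := hn
    haveI : Algebra.FiniteType A B' := Algebra.FiniteType.adjoin_of_finite s.finite_toSet
    haveI : IsNoetherianRing B' := Algebra.FiniteType.isNoetherianRing A B'
    have hB' : CAlg.IsCatenary B'[X] := (isUniversallyCatenary_of_finiteType A B' hA).2 B'[X] inferInstance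
    have hint : IsIntegral B' a := (Algebra.IsIntegral.isIntegral (R := A) a).tower_top
    let x : T := ⟨a, Algebra.subset_adjoin rfl⟩
    have hx : Function.Surjective (Polynomial.aeval (R := B') x) := by
      intro y
      obtain ⟨f, hf⟩ : (y : B) ∈ (Polynomial.aeval (R := B') a).range := by
        rw [← Algebra.adjoin_singleton_eq_range_aeval]; exact y.2
      refine ⟨f, Subtype.ext ?_⟩
      rw [← hf]
      exact (Polynomial.aeval_algHom_apply T.val x f).symm
    have hintx : IsIntegral B' x := by
      obtain ⟨f, hf, hf'⟩ := hint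
      refine ⟨f, hf, Subtype.ext ?_⟩
      rw [← Polynomial.aeval_def, ZeroMemClass.coe_zero]
      exact (Polynomial.aeval_algHom_apply T.val x f).symm.trans hf'
    have hinj : Function.Injective (algebraMap B' T) := fun u v huv => Subtype.ext (congrArg Subtype.val huv :)
    refine (height_eq_of_simple_ext hB' x hx hinj hintx n).trans (ih _ ?_)
    haveI : Algebra.IsIntegral B' T := ⟨fun y => by
      obtain ⟨f, rfl⟩ := hx y
      exact IsIntegral.of_mem_of_fg (Algebra.adjoin B' {x}) hintx.fg_adjoin_singleton _
        (Polynomial.aeval_mem_adjoin_singleton B' x)⟩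
    exact Ideal.isMaximal_comap_of_isIntegral_of_isMaximal n

end CatLib
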