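import Mathlib.CategoryTheory.Localization.CalculusOfFractions
import Mathlib.CategoryTheory.Localization.Predicate
import Mathlib.CategoryTheory.Limits.Shapes.Pullback.IsPullback.Basic
import Mathlib.CategoryTheory.Limits.Shapes.Pullback.HasPullback
import Mathlib.CategoryTheory.Limits.Constructions.LimitsOfProductsAndEqualizers
import Mathlib.CategoryTheory.Limits.Constructions.BinaryProducts
import Mathlib.CategoryTheory.Limits.Preserves.Shapes.BinaryProducts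

/-!
# Limits and binary coproducts in a localization with a right calculus of fractions
-/

universe v₁ v₂ u₁ u₂

open CategoryTheory CategoryTheory.Limits

namespace LocLimits

variable {C : Type u₁} [Category.{v₁} C] {D : Type u₂} [Category.{v₂} D] (L : C ⥤ D)
  (W : MorphismProperty C) [L.IsLocalization W] [W.HasRightCalculusOfFractions]

theorem exists_frac {Z X : C} (a : L.obj Z ⟶ L.obj X) :
    ∃ (Z' : C) (s : Z' ⟶ Z) (_ : W s) (k : Z' ⟶ X), L.map s ≫ a = L.map k := by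
  obtain ⟨φ, rfl⟩ := Localization.exists_rightFraction L W a
  exact ⟨_, φ.s, φ.hs, φ.f, φ.map_s_comp_map L (Localization.inverts L W)⟩

theorem exists_frac₂ {Z X T : C} (a : L.obj Z ⟶ L.obj X) (b : L.obj Z ⟶ L.obj T) :
    ∃ (Z' : C) (s : Z' ⟶ Z) (_ : W s) (k : Z' ⟶ X) (l : Z' ⟶ T),
      L.map s ≫ a = L.map k ∧ L.map s ≫ b = L.map l := by
  obtain ⟨Z₁, s, hs, k, hk⟩ := exists_frac L W a
  obtain ⟨Z₂, t, ht, l, hl⟩ := exists_frac L W (L.map s ≫ b)
  exact ⟨Z₂, t ≫ s, W.comp_mem t s ht hs, t ≫ k, l,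
    by rw [L.map_comp, L.map_comp, Category.assoc, hk], by rw [L.map_comp, Category.assoc, hl]⟩

theorem cancel_map {Y' Y : C} {s : Y' ⟶ Y} (hs : W s) {A : D} {a b : L.obj Y ⟶ A}
    (h : L.map s ≫ a = L.map s ≫ b) : a = b := by
  have : IsIso (L.map s) := Localization.inverts L W s hs
  exact (cancel_epi (L.map s)).mp h

/-- An "ambient product" in `C` becomes a fibre product in the localization. -/
theorem isPullback_map {X T S P : C} {f : X ⟶ S} {g : T ⟶ S} {p₁ : P ⟶ X} {p₂ : P ⟶ T}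
    (w : p₁ ≫ f = p₂ ≫ g)
    (hlift : ∀ (Z : C) (a : Z ⟶ X) (b : Z ⟶ T), a ≫ f = b ≫ g →
      ∃ (Z' : C) (s : Z' ⟶ Z) (_ : W s) (k : Z' ⟶ P), k ≫ p₁ = s ≫ a ∧ k ≫ p₂ = s ≫ b)
    (hext : ∀ (Z : C) (k k' : Z ⟶ P), k ≫ p₁ = k' ≫ p₁ → k ≫ p₂ = k' ≫ p₂ → k = k') :
    IsPullback (L.map p₁) (L.map p₂) (L.map f) (L.map g) := by
  have := Localization.essSurj L W
  have uniq : ∀ (Z : C) (m m' : L.obj Z ⟶ L.obj P), m ≫ L.map p₁ = m' ≫ L.map p₁ →
      m ≫ L.map p₂ = m' ≫ L.map p₂ → m = m' := by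
    intro Z m m' h₁ h₂
    obtain ⟨Z', s, hs, k, k', hk, hk'⟩ := exists_frac₂ L W m m'
    refine cancel_map L W hs ?_
    rw [hk, hk']
    have e₁ : L.map (k ≫ p₁) = L.map (k' ≫ p₁) := by
      rw [L.map_comp, L.map_comp, ← hk, ← hk', Category.assoc, Category.assoc, h₁]
    have e₂ : L.map (k ≫ p₂) = L.map (k' ≫ p₂) := by
      rw [L.map_comp, L.map_comp, ← hk, ← hk', Category.assoc, Category.assoc, h₂]
    obtain ⟨Z₁, t, ht, e₁⟩ := (MorphismProperty.map_eq_iff_precomp L W _ _).mp e₁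
    refine cancel_map L W ht ?_
    rw [← L.map_comp, ← L.map_comp]
    have e₂' : L.map ((t ≫ k) ≫ p₂) = L.map ((t ≫ k') ≫ p₂) := by
      rw [Category.assoc, Category.assoc, L.map_comp, L.map_comp t, e₂]
    obtain ⟨Z₂, r, hr, e₃⟩ := (MorphismProperty.map_eq_iff_precomp L W _ _).mp e₂'
    refine cancel_map L W hr ?_
    rw [← L.map_comp, ← L.map_comp]
    exact congrArg L.map (hext _ _ _ (by simp only [Category.assoc, e₁]) (by simpa using e₃))
  have ex : ∀ (Z : C) (a : L.obj Z ⟶ L.obj X) (b : L.obj Z ⟶ L.obj T), a ≫ L.map f = b ≫ L.map g →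
      ∃ m : L.obj Z ⟶ L.obj P, m ≫ L.map p₁ = a ∧ m ≫ L.map p₂ = b := by
    intro Z a b h
    obtain ⟨Z', s, hs, k, l, hk, hl⟩ := exists_frac₂ L W a b
    have e : L.map (k ≫ f) = L.map (l ≫ g) := by
      rw [L.map_comp, L.map_comp, ← hk, ← hl, Category.assoc, Category.assoc, h]
    obtain ⟨Z₁, t, ht, e'⟩ := (MorphismProperty.map_eq_iff_precomp L W _ _).mp e
    obtain ⟨Z₂, r, hr, q, hq₁, hq₂⟩ := hlift Z₁ (t ≫ k) (t ≫ l) (by simpa using e')
    have hiso : IsIso (L.map (r ≫ t ≫ s)) :=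
      Localization.inverts L W _ (W.comp_mem r _ hr (W.comp_mem t s ht hs))
    refine ⟨inv (L.map (r ≫ t ≫ s)) ≫ L.map q, ?_, ?_⟩
    · rw [Category.assoc, ← L.map_comp, hq₁, IsIso.inv_comp_eq]
      simp only [L.map_comp, Category.assoc, hk]
    · rw [Category.assoc, ← L.map_comp, hq₂, IsIso.inv_comp_eq]
      simp only [L.map_comp, Category.assoc, hl]
  have ex' : ∀ (s : PullbackCone (L.map f) (L.map g)), ∃ m : s.pt ⟶ L.obj P,
      m ≫ L.map p₁ = s.fst ∧ m ≫ L.map p₂ = s.snd := by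
    intro s
    let e := L.objObjPreimageIso s.pt
    obtain ⟨m, h₁, h₂⟩ := ex _ (e.hom ≫ s.fst) (e.hom ≫ s.snd) (by
      rw [Category.assoc, Category.assoc, s.condition])
    exact ⟨e.inv ≫ m, by rw [Category.assoc, h₁, e.inv_hom_id_assoc],
      by rw [Category.assoc, h₂, e.inv_hom_id_assoc]⟩
  refine ⟨⟨by rw [← L.map_comp, ← L.map_comp, w]⟩,
    ⟨PullbackCone.IsLimit.mk _ (fun s => (ex' s).choose) (fun s => (ex' s).choose_spec.1)
      (fun s => (ex' s).choose_spec.2) fun s m h₁ h₂ => ?_⟩⟩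
  let e := L.objObjPreimageIso s.pt
  refine (cancel_epi e.hom).mp (uniq _ _ _ ?_ ?_)
  · simp only [Category.assoc, h₁, (ex' s).choose_spec.1]
  · simp only [Category.assoc, h₂, (ex' s).choose_spec.2]

include L W in
/-- The localization has fibre products as soon as every cospan in `C` has an ambient product. -/
theorem hasPullbacks
    (H : ∀ {X T S : C} (f : X ⟶ S) (g : T ⟶ S), ∃ (P : C) (p₁ : P ⟶ X) (p₂ : P ⟶ T),
      p₁ ≫ f = p₂ ≫ g ∧
      (∀ (Z : C) (a : Z ⟶ X) (b : Z ⟶ T), a ≫ f = b ≫ g →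
        ∃ (Z' : C) (s : Z' ⟶ Z) (_ : W s) (k : Z' ⟶ P), k ≫ p₁ = s ≫ a ∧ k ≫ p₂ = s ≫ b) ∧
      (∀ (Z : C) (k k' : Z ⟶ P), k ≫ p₁ = k' ≫ p₁ → k ≫ p₂ = k' ≫ p₂ → k = k')) :
    HasPullbacks D := by
  have := Localization.essSurj L W
  suffices ∀ {A B S' : D} (a : A ⟶ S') (b : B ⟶ S'), HasPullback a b from
    @hasPullbacks_of_hasLimit_cospan D _ (fun {_ _ _ a b} => this a b)
  intro A B S' a b
  let eS := L.objObjPreimageIso S'
  let eA := L.objObjPreimageIso A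
  let eB := L.objObjPreimageIso B
  obtain ⟨X, s, hs, f, hf⟩ := exists_frac L W (eA.hom ≫ a ≫ eS.inv)
  obtain ⟨T, t, ht, g, hg⟩ := exists_frac L W (eB.hom ≫ b ≫ eS.inv)
  obtain ⟨P, p₁, p₂, w, h₁, h₂⟩ := H f g
  have hp := isPullback_map L W w h₁ h₂
  have : IsIso (L.map s) := Localization.inverts L W s hs
  have : IsIso (L.map t) := Localization.inverts L W t ht
  exact (hp.of_iso (Iso.refl _) (asIso (L.map s) ≪≫ eA) (asIso (L.map t) ≪≫ eB) eS (fst' := L.map p₁ ≫ L.map s ≫ eA.hom) (snd' := L.map p₂ ≫ L.map t ≫ eB.hom) (by simp) (by simp)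
    (by simp [← reassoc_of% hf]) (by simp [← reassoc_of% hg])).hasPullback

include L W in
theorem hasTerminal {T : C} (hT : IsTerminal T) : HasTerminal D := by
  have := Localization.essSurj L W
  have : ∀ A : D, Nonempty (A ⟶ L.obj T) := fun A =>
    ⟨(L.objObjPreimageIso A).inv ≫ L.map (hT.from _)⟩
  have hsub : ∀ A : D, Subsingleton (A ⟶ L.obj T) := fun A => ⟨fun m m' => by
    refine (cancel_epi (L.objObjPreimageIso A).hom).mp ?_
    obtain ⟨Z', s, hs, k, k', hk, hk'⟩ := exists_frac₂ L W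
      ((L.objObjPreimageIso A).hom ≫ m) ((L.objObjPreimageIso A).hom ≫ m')
    exact cancel_map L W hs (hk.trans ((congrArg L.map (hT.hom_ext k k')).trans hk'.symm))⟩
  have : ∀ A : D, Unique (A ⟶ L.obj T) := fun A =>
    ⟨⟨(this A).some⟩, fun _ => (hsub A).elim _ _⟩
  exact hasTerminal_of_unique (L.obj T)

/-- A coproduct along which `W` is stable becomes a coproduct in the localization. -/
theorem isColimit_map_binaryCofan {A B P : C} {i₁ : A ⟶ P} {i₂ : B ⟶ P}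
    (hc : IsColimit (BinaryCofan.mk i₁ i₂))
    (hW : ∀ {A' B' : C} (s : A' ⟶ A) (t : B' ⟶ B), W s → W t →
      ∃ (P' : C) (j₁ : A' ⟶ P') (j₂ : B' ⟶ P') (_ : IsColimit (BinaryCofan.mk j₁ j₂)) (r : P' ⟶ P),
        W r ∧ j₁ ≫ r = s ≫ i₁ ∧ j₂ ≫ r = t ≫ i₂) :
    Nonempty (IsColimit (BinaryCofan.mk (L.map i₁) (L.map i₂))) := by
  have := Localization.essSurj L W
  have ex : ∀ (Z : C) (a : L.obj A ⟶ L.obj Z) (b : L.obj B ⟶ L.obj Z),
      ∃ m : L.obj P ⟶ L.obj Z, L.map i₁ ≫ m = a ∧ L.map i₂ ≫ m = b := by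
    intro Z a b
    obtain ⟨A', s, hs, k, hk⟩ := exists_frac L W a
    obtain ⟨B', t, ht, l, hl⟩ := exists_frac L W b
    obtain ⟨P', j₁, j₂, hc', r, hr, hr₁, hr₂⟩ := hW s t hs ht
    obtain ⟨q, hq₁, hq₂⟩ : ∃ q : P' ⟶ Z, j₁ ≫ q = k ∧ j₂ ≫ q = l :=
      ⟨_, (BinaryCofan.IsColimit.desc' hc' k l).2⟩
    have : IsIso (L.map r) := Localization.inverts L W r hr
    refine ⟨inv (L.map r) ≫ L.map q, cancel_map L W hs ?_, cancel_map L W ht ?_⟩
    · rw [hk, ← Category.assoc, ← L.map_comp, ← hr₁, L.map_comp, Category.assoc,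
        IsIso.hom_inv_id_assoc, ← L.map_comp, hq₁]
    · rw [hl, ← Category.assoc, ← L.map_comp, ← hr₂, L.map_comp, Category.assoc,
        IsIso.hom_inv_id_assoc, ← L.map_comp, hq₂]
  have uniq : ∀ (Z : C) (m m' : L.obj P ⟶ L.obj Z), L.map i₁ ≫ m = L.map i₁ ≫ m' →
      L.map i₂ ≫ m = L.map i₂ ≫ m' → m = m' := by
    intro Z m m' h₁ h₂
    obtain ⟨R, r, hr, k, k', hk, hk'⟩ := exists_frac₂ L W m m'
    obtain ⟨φA, hA⟩ := (MorphismProperty.LeftFraction.mk i₁ r hr).exists_rightFraction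
    obtain ⟨φB, hB⟩ := (MorphismProperty.LeftFraction.mk i₂ r hr).exists_rightFraction
    have e : ∀ {Y Y' : C} (σ : Y' ⟶ Y) (j : Y' ⟶ R) (i : Y ⟶ P), σ ≫ i = j ≫ r →
        L.map i ≫ m = L.map i ≫ m' → L.map (j ≫ k) = L.map (j ≫ k') := by
      intro Y Y' σ j i hj h
      rw [L.map_comp, L.map_comp, ← hk, ← hk', ← Category.assoc, ← Category.assoc, ← L.map_comp,
        ← hj, L.map_comp, Category.assoc, Category.assoc, h]
    obtain ⟨A', tA, htA, eA⟩ :=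
      (MorphismProperty.map_eq_iff_precomp L W _ _).mp (e φA.s φA.f i₁ hA h₁)
    obtain ⟨B', tB, htB, eB⟩ :=
      (MorphismProperty.map_eq_iff_precomp L W _ _).mp (e φB.s φB.f i₂ hB h₂)
    obtain ⟨P', j₁, j₂, hc', ρ, hρ, hρ₁, hρ₂⟩ :=
      hW (tA ≫ φA.s) (tB ≫ φB.s) (W.comp_mem _ _ htA φA.hs) (W.comp_mem _ _ htB φB.hs)
    obtain ⟨j, hj₁, hj₂⟩ : ∃ j : P' ⟶ R, j₁ ≫ j = tA ≫ φA.f ∧ j₂ ≫ j = tB ≫ φB.f :=
      ⟨_, (BinaryCofan.IsColimit.desc' hc' (tA ≫ φA.f) (tB ≫ φB.f)).2⟩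
    have hjr : j ≫ r = ρ := by
      refine BinaryCofan.IsColimit.hom_ext hc' ?_ ?_
      · change j₁ ≫ j ≫ r = j₁ ≫ ρ
        rw [← Category.assoc, hj₁, hρ₁, Category.assoc, Category.assoc]
        exact congrArg (tA ≫ ·) hA.symm
      · change j₂ ≫ j ≫ r = j₂ ≫ ρ
        rw [← Category.assoc, hj₂, hρ₂, Category.assoc, Category.assoc]
        exact congrArg (tB ≫ ·) hB.symm
    have hjk : j ≫ k = j ≫ k' := by
      refine BinaryCofan.IsColimit.hom_ext hc' ?_ ?_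
      · change j₁ ≫ j ≫ k = j₁ ≫ j ≫ k'
        rw [← Category.assoc, ← Category.assoc, hj₁, Category.assoc, Category.assoc, eA]
      · change j₂ ≫ j ≫ k = j₂ ≫ j ≫ k'
        rw [← Category.assoc, ← Category.assoc, hj₂, Category.assoc, Category.assoc, eB]
    refine cancel_map L W hρ ?_
    rw [← hjr, L.map_comp, Category.assoc, Category.assoc, hk, hk', ← L.map_comp, ← L.map_comp, hjk]
  have ex' : ∀ (Z' : D) (a : L.obj A ⟶ Z') (b : L.obj B ⟶ Z'),
      ∃! m : L.obj P ⟶ Z', L.map i₁ ≫ m = a ∧ L.map i₂ ≫ m = b := by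
    intro Z' a b
    let e := L.objObjPreimageIso Z'
    obtain ⟨m, h₁, h₂⟩ := ex _ (a ≫ e.inv) (b ≫ e.inv)
    refine ⟨m ≫ e.hom, ⟨by simp [reassoc_of% h₁], by simp [reassoc_of% h₂]⟩, fun m' ⟨g₁, g₂⟩ => ?_⟩
    have : m' ≫ e.inv = m := uniq _ _ _ (by rw [h₁, ← g₁, Category.assoc]) (by rw [h₂, ← g₂, Category.assoc])
    rw [← this, Category.assoc, e.inv_hom_id, Category.comp_id]
  exact ⟨BinaryCofan.IsColimit.mk _ (fun a b => (ex' _ a b).choose)
    (fun a b => (ex' _ a b).choose_spec.1.1) (fun a b => (ex' _ a b).choose_spec.1.2)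
    (fun a b m h₁ h₂ => (ex' _ a b).choose_spec.2 m ⟨h₁, h₂⟩)⟩

end LocLimits
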